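import Groth.Prelude.Def_Flat
import Groth.Agent.DimLib.Morphism
import Groth.Agent.EGA43.FibDepth.Points
import Groth.Agent.EGA43.FibDepth.FibreDim

/-!
# Local dimension of fibres
-/

universe u

set_option autoImplicit false
set_option backward.isDefEq.respectTransparency false

open CategoryTheory CategoryTheory.Limits AlgebraicGeometry TopologicalSpace

namespace Groth.Agent.FlatMorDim

open Groth.Agent

theorem localDim_le_iff {k : Type u} [Field k] {Z : Scheme.{u}} (p : Z ⟶ Spec (.of k))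
    [LocallyOfFiniteType p] (z : Z) (n : ℕ) :
    FlatMor.localDim Z z ≤ (n : WithBot ℕ∞) ↔ ∀ w, w ⤳ z → DimLib.ptDim p w ≤ n := by
  constructor
  · intro h w hw
    suffices (DimLib.ptDim p w : WithBot ℕ∞) ≤ FlatMor.localDim Z z from
      by exact_mod_cast this.trans h
    refine le_iInf fun ⟨U, hU⟩ => ?_
    let U' : Z.Opens := U
    have := DimLib.ptDim_le_topologicalKrullDim (U'.ι ≫ p) ⟨w, hw.mem_open U.isOpen hU⟩
    rw [DimLib.ptDim_comp_preimmersion] at this
    exact this
  · intro h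
    obtain ⟨V, hV, hzV, -⟩ :=
      exists_isAffineOpen_mem_and_subset (x := z) (U := ⊤) (Set.mem_univ _)
    have : IsAffine V.toScheme := hV
    have hfin := LocallyOfFiniteType.isLocallyNoetherian p
    have : IsNoetherian V.toScheme := { }
    let S : Set (Set V.toScheme) := {C ∈ irreducibleComponents V.toScheme | (⟨z, hzV⟩ : V.toScheme) ∉ C}
    have hS : S.Finite :=
      TopologicalSpace.NoetherianSpace.finite_irreducibleComponents.subset fun C hC => hC.1
    let W : V.toScheme.Opens := ⟨(⋃ C ∈ S, C)ᶜ, (hS.isClosed_biUnion fun C hC =>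
      isClosed_of_mem_irreducibleComponents C hC.1).isOpen_compl⟩
    let U : Z.Opens := V.ι ''ᵁ W
    have hzU : z ∈ U := ⟨⟨z, hzV⟩, by
      show _ ∈ (⋃ C ∈ S, C)ᶜ
      simp only [Set.mem_compl_iff, Set.mem_iUnion, not_exists]
      exact fun C hC hz => hC.2 hz, rfl⟩
    refine (iInf_le _ (⟨U, hzU⟩ : {U : TopologicalSpace.Opens Z // z ∈ U})).trans ?_
    show topologicalKrullDim U.toScheme ≤ _
    rw [DimLib.topologicalKrullDim_eq_iSup (U.ι ≫ p)]
    refine iSup_le fun ⟨u, v, hv, hvu⟩ => ?_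
    rw [DimLib.ptDim_comp_preimmersion]
    show ((DimLib.ptDim p u : ℕ) : WithBot ℕ∞) ≤ _
    norm_cast
    obtain ⟨η, hη⟩ := QuasiSober.sober (S := irreducibleComponent v)
      isIrreducible_irreducibleComponent isClosed_irreducibleComponent
    have hηz : η ⤳ (⟨z, hzV⟩ : V.toScheme) := by
      refine hη.specializes (by_contra fun hz => ?_)
      refine hv ?_
      exact Set.mem_biUnion (x := irreducibleComponent v)
        ⟨irreducibleComponent_mem_irreducibleComponents v, hz⟩ mem_irreducibleComponent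
    have h2 : η.1 ⤳ u := hvu ▸ (hη.specializes mem_irreducibleComponent).map V.ι.continuous
    have h1 := h η.1 (hηz.map V.ι.continuous)
    by_cases e : η.1 = u
    · rwa [← e]
    · have := DimLib.ptDim_lt_of_specializes p h2 e
      omega

variable {X Y : Scheme.{u}} (f : X ⟶ Y) [LocallyOfFiniteType f]

theorem fibreDimAt_le_iff (x : X) (n : ℕ) :
    FlatMor.fibreDimAt f x ≤ (n : WithBot ℕ∞) ↔
      ∀ x', f x' = f x → x' ⤳ x → DimLib.trdegHom (f.residueFieldMap x').hom ≤ n := by
  have : LocallyOfFiniteType (f.fiberToSpecResidueField (f x)) :=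
    inferInstanceAs (LocallyOfFiniteType (Limits.pullback.snd f (Y.fromSpecResidueField (f x))))
  refine (localDim_le_iff (k := Y.residueField (f x)) (f.fiberToSpecResidueField (f x))
    (f.asFiber x) n).trans ⟨fun h x' hx' hs => ?_, fun h w hw => ?_⟩
  · obtain ⟨w, rfl⟩ : x' ∈ Set.range (f.fiberι (f x)) := by rw [f.range_fiberι]; exact hx'
    have hw : w ⤳ f.asFiber x := by
      rw [← (f.fiberι (f x)).isEmbedding.isInducing.specializes_iff, f.fiberι_asFiber]
      exact hs
    rw [← EGA43.FibDepth.ptDim_fiber f]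
    exact h w hw
  · have hw' : f (f.fiberι (f x) w) = f x := by
      have h' : f.fiberι (f x) w ∈ Set.range (f.fiberι (f x)) := ⟨w, rfl⟩
      rwa [f.range_fiberι] at h'
    rw [EGA43.FibDepth.ptDim_fiber f]
    refine h _ hw' ?_
    have h' := hw.map (f.fiberι (f x)).continuous
    rwa [f.fiberι_asFiber] at h'

/-- Upper semicontinuity of the fibre dimension on the source. -/
theorem isOpen_fibreDimAt_le (n : ℕ) : IsOpen {x : X | FlatMor.fibreDimAt f x ≤ (n : WithBot ℕ∞)} := by
  refine isOpen_iff_forall_mem_open.2 fun x₀ hx₀ => ?_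
  obtain ⟨V, hV, hxV, -⟩ := exists_isAffineOpen_mem_and_subset (x := f x₀) (U := ⊤) (Set.mem_univ _)
  obtain ⟨U, hU, hxU, hUV'⟩ := exists_isAffineOpen_mem_and_subset (x := x₀) (U := f ⁻¹ᵁ V) hxV
  have e : U ≤ f ⁻¹ᵁ V := hUV'
  algebraize [(f.appLE V U e).hom]
  have : Algebra.FiniteType Γ(Y, V) Γ(X, U) := LocallyOfFiniteType.finiteType_appLE f hV hU e
  let O := {q : PrimeSpectrum Γ(X, U) | ∀ q' : PrimeSpectrum Γ(X, U), q'.asIdeal ≤ q.asIdeal →
    q'.asIdeal.comap (algebraMap Γ(Y, V) Γ(X, U)) = q.asIdeal.comap (algebraMap Γ(Y, V) Γ(X, U)) →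
      EGA43.FibDepth.trd Γ(Y, V) q' ≤ n}
  have hO : IsOpen O := EGA43.FibDepth.isOpen_trd_le n
  have key : ∀ x (hx : x ∈ U),
      FlatMor.fibreDimAt f x ≤ (n : WithBot ℕ∞) ↔ hU.primeIdealOf ⟨x, hx⟩ ∈ O := by
    intro x hx
    have hp : ∀ y (hy : y ∈ U), (hU.primeIdealOf ⟨y, hy⟩).asIdeal.comap (f.appLE V U e).hom =
        (hV.primeIdealOf ⟨f y, e hy⟩).asIdeal :=
      fun y hy => EGA43.FibDepth.comap_primeIdealOf f hV hU e hy
    rw [fibreDimAt_le_iff]
    constructor
    · intro h q' hle hq'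
      have hy : hU.fromSpec q' ∈ U := hU.range_fromSpec.le ⟨q', rfl⟩
      have hq : hU.primeIdealOf ⟨hU.fromSpec q', hy⟩ = q' :=
        hU.fromSpec.isOpenEmbedding.injective (hU.fromSpec_primeIdealOf ⟨hU.fromSpec q', hy⟩)
      rw [← hq, ← EGA43.FibDepth.trdegHom_residueFieldMap f hV hU e hy]
      refine h _ ?_ ?_
      · have := hp _ hy
        rw [hq] at this
        have h' : hV.primeIdealOf ⟨f (hU.fromSpec q'), e hy⟩ = hV.primeIdealOf ⟨f x, e hx⟩ :=
          PrimeSpectrum.ext (by rw [← this, ← hp x hx]; exact hq')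
        have := congrArg hV.fromSpec h'
        rwa [hV.fromSpec_primeIdealOf, hV.fromSpec_primeIdealOf] at this
      · have h' := ((PrimeSpectrum.le_iff_specializes _ _).1
          (show q' ≤ hU.primeIdealOf ⟨x, hx⟩ from hle)).map hU.fromSpec.continuous
        rwa [hU.fromSpec_primeIdealOf] at h'
    · intro h x' hx' hs
      have hx'U : x' ∈ U := hs.mem_open U.isOpen hx
      rw [EGA43.FibDepth.trdegHom_residueFieldMap f hV hU e hx'U]
      refine h _ ?_ ?_
      · refine (PrimeSpectrum.le_iff_specializes _ _).2 ?_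
        rw [← hU.fromSpec.isOpenEmbedding.isInducing.specializes_iff, hU.fromSpec_primeIdealOf,
          hU.fromSpec_primeIdealOf]
        exact hs
      · show Ideal.comap (f.appLE V U e).hom _ = Ideal.comap (f.appLE V U e).hom _
        rw [hp x' hx'U, hp x hx]
        congr 3
  refine ⟨hU.fromSpec '' O, ?_, hU.fromSpec.isOpenEmbedding.isOpenMap _ hO, ?_⟩
  · rintro _ ⟨q, hq, rfl⟩
    have hy : hU.fromSpec q ∈ U := hU.range_fromSpec.le ⟨q, rfl⟩
    refine (key _ hy).2 ?_
    rwa [show hU.primeIdealOf ⟨hU.fromSpec q, hy⟩ = q from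
      hU.fromSpec.isOpenEmbedding.injective (hU.fromSpec_primeIdealOf ⟨_, hy⟩)]
  · exact ⟨_, (key x₀ hxU).1 hx₀, hU.fromSpec_primeIdealOf _⟩

end Groth.Agent.FlatMorDim
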