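import Groth.Agent.FlatMorDim.FlatLift
import Groth.Agent.EGA43.FibDepth.FibreDim
import Mathlib.RingTheory.Valuation.ValuationRing
import Mathlib.RingTheory.Flat.TorsionFree
import Mathlib.RingTheory.Ideal.Quotient.Operations

/-!
# Dimension of the special fibre over a valuation ring
-/

set_option autoImplicit false
set_option backward.isDefEq.respectTransparency false

universe u

open TensorProduct Function

namespace Groth.Agent.FlatMorDim

open Groth.Agent Groth.Agent.EGA43.FibDepth

theorem ringKrullDim_le_iff_forall_quotient {C : Type u} [CommRing C] (n : WithBot ℕ∞) :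
    ringKrullDim C ≤ n ↔ ∀ Q : PrimeSpectrum C, ringKrullDim (C ⧸ Q.asIdeal) ≤ n := by
  refine ⟨fun h Q => (ringKrullDim_quotient_le _).trans h, fun h => iSup_le fun l => ?_⟩
  refine le_trans ?_ (h l.head)
  rw [ringKrullDim_quotient]
  let l' : LTSeries (PrimeSpectrum.zeroLocus (l.head.asIdeal : Set C)) :=
    LTSeries.mk l.length (fun i => ⟨l i, fun x hx => LTSeries.head_le l i hx⟩)
      (fun i j hij => l.strictMono hij)
  exact le_iSup_of_le l' le_rfl

attribute [local instance] Algebra.TensorProduct.rightAlgebra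

variable {A R : Type u} [CommRing A] [CommRing R] [Algebra A R]

theorem ringKrullDim_fiber_le_iff [Algebra.FiniteType A R] (p : Ideal A) [p.IsPrime] (n : ℕ) :
    ringKrullDim (p.Fiber R) ≤ (n : WithBot ℕ∞) ↔
      ∀ q : PrimeSpectrum R, q.asIdeal.comap (algebraMap A R) = p → trd A q ≤ n := by
  have : IsScalarTower A R (p.Fiber R) := .of_algebraMap_eq fun a => by
    show algebraMap A p.ResidueField a ⊗ₜ[A] (1 : R) = (1 : p.ResidueField) ⊗ₜ[A] algebraMap A R a
    rw [Algebra.algebraMap_eq_smul_one, smul_tmul, ← Algebra.algebraMap_eq_smul_one]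
  rw [ringKrullDim_le_iff_forall_quotient]
  constructor
  · intro h q hq
    obtain ⟨Q, rfl⟩ := exists_prime_over (A := A) (p := p) (p.Fiber R) q hq.symm
    have := h Q
    rw [ringKrullDim_quotient_eq_trd (A := A) (R := R) p Q] at this
    exact_mod_cast this
  · intro h Q
    rw [ringKrullDim_quotient_eq_trd (A := A) (R := R) p Q]
    exact_mod_cast h _ (comap_algebraMap_eq (R := R) p Q).symm

theorem exists_fractionRing_equiv [IsDomain A] :
    Nonempty (FractionRing A ≃ₐ[A] (⊥ : Ideal A).ResidueField) := by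
  have hinj : Injective (Algebra.ofId A (⊥ : Ideal A).ResidueField) :=
    (injective_iff_map_eq_zero _).2 fun a ha =>
      Ideal.mem_bot.1 (Ideal.algebraMap_residueField_eq_zero.1 ha)
  let φ : FractionRing A →ₐ[A] (⊥ : Ideal A).ResidueField := IsFractionRing.liftAlgHom hinj
  refine ⟨AlgEquiv.ofBijective φ ⟨φ.toRingHom.injective, fun z => ?_⟩⟩
  obtain ⟨a, b, -, rfl⟩ := IsFractionRing.div_surjective (A ⧸ (⊥ : Ideal A)) z
  obtain ⟨a, rfl⟩ := Ideal.Quotient.mk_surjective a
  obtain ⟨b, rfl⟩ := Ideal.Quotient.mk_surjective b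
  exact ⟨algebraMap A _ a / algebraMap A _ b, by rw [map_div₀, φ.commutes, φ.commutes]; rfl⟩

theorem dim_special_eq_dim_generic [IsDomain A] [ValuationRing A] [IsDomain R]
    (hinj : Injective (algebraMap A R)) [Algebra.FiniteType A R]
    [Nontrivial (IsLocalRing.ResidueField A ⊗[A] R)] :
    ringKrullDim (IsLocalRing.ResidueField A ⊗[A] R) = ringKrullDim (FractionRing A ⊗[A] R) := by
  have := (faithfulSMul_iff_algebraMap_injective A R).2 hinj
  have : Module.IsTorsionFree A R := inferInstance
  have : Module.Flat A R := Module.Flat.flat_iff_torsion_eq_bot_of_isBezout.2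
    (Submodule.isTorsionFree_iff_torsion_eq_bot.1 ‹_›)
  obtain ⟨eK⟩ := exists_fractionRing_equiv (A := A)
  let m := IsLocalRing.maximalIdeal A
  let ek : IsLocalRing.ResidueField A ≃ₐ[A] m.ResidueField :=
    AlgEquiv.ofBijective (IsScalarTower.toAlgHom A (A ⧸ m) m.ResidueField)
      m.bijective_algebraMap_quotient_residueField
  let Ek := (Algebra.TensorProduct.congr ek (AlgEquiv.refl (R := A) (A₁ := R))).toRingEquiv
  have : Nontrivial (m.Fiber R) := Ek.symm.toEquiv.nontrivial
  rw [ringKrullDim_eq_of_ringEquiv Ek, ringKrullDim_eq_of_ringEquiv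
    (Algebra.TensorProduct.congr eK (AlgEquiv.refl (R := A) (A₁ := R))).toRingEquiv]
  let ξ : PrimeSpectrum R := ⟨⊥, Ideal.isPrime_bot⟩
  have hξ : ξ.asIdeal.comap (algebraMap A R) = ⊥ :=
    (RingHom.injective_iff_ker_eq_bot _).1 hinj
  have hK : ∀ n : ℕ, ringKrullDim ((⊥ : Ideal A).Fiber R) ≤ (n : WithBot ℕ∞) ↔ trd A ξ ≤ n := by
    intro n
    rw [ringKrullDim_fiber_le_iff]
    exact ⟨fun h => h ξ hξ, fun h q hq => (trd_mono (q' := ξ) bot_le (hq.trans hξ.symm)).trans h⟩
  have hm : ∀ n : ℕ, ringKrullDim (m.Fiber R) ≤ (n : WithBot ℕ∞) ↔ trd A ξ ≤ n := by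
    intro n
    rw [ringKrullDim_fiber_le_iff]
    constructor
    · intro h
      obtain ⟨Q⟩ : Nonempty (PrimeSpectrum (m.Fiber R)) := inferInstance
      let q := PrimeSpectrum.comap (algebraMap R (m.Fiber R)) Q
      have hq : q.asIdeal.comap (algebraMap A R) = m := by
        refine le_antisymm (IsLocalRing.le_maximalIdeal (Ideal.IsPrime.ne_top inferInstance))
          fun a ha => ?_
        show (1 : m.ResidueField) ⊗ₜ[A] algebraMap A R a ∈ Q.asIdeal
        rw [Algebra.algebraMap_eq_smul_one, tmul_smul, smul_tmul',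
          ← Algebra.algebraMap_eq_smul_one, Ideal.algebraMap_residueField_eq_zero.2 ha, zero_tmul]
        exact zero_mem _
      have hO := isOpen_trd_le (A := A) (R := R) n
      have hqO : q ∈ {q : PrimeSpectrum R | ∀ q' : PrimeSpectrum R, q'.asIdeal ≤ q.asIdeal →
          q'.asIdeal.comap (algebraMap A R) = q.asIdeal.comap (algebraMap A R) → trd A q' ≤ n} :=
        fun q' _ h' => h q' (h'.trans hq)
      exact ((PrimeSpectrum.le_iff_specializes ξ q).1 bot_le).mem_open hO hqO ξ le_rfl rfl
    · intro h q hq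
      obtain ⟨q', -, hbot, hle⟩ := exists_le_trd_le q (⊥ : Ideal A) bot_le
      exact (hle.trans (trd_mono (q' := ξ) bot_le (hbot.trans hξ.symm))).trans h
  refine le_antisymm ((hm _).2 le_rfl |>.trans ?_) ((hK _).2 le_rfl |>.trans ?_)
  · refine not_lt.1 fun hlt => ?_
    rcases Nat.eq_zero_or_pos (trd A ξ) with h0 | h0
    · have : Nontrivial ((⊥ : Ideal A).Fiber R) := by
        obtain ⟨Q, -⟩ := exists_prime_over (A := A) (p := (⊥ : Ideal A)) ((⊥ : Ideal A).Fiber R) ξ hξ.symm
        exact ⟨⟨0, 1, fun h => Q.isPrime.ne_top ((Ideal.eq_top_iff_one _).2 (h ▸ zero_mem _))⟩⟩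
      rw [h0] at hlt
      exact absurd hlt (not_lt.2 ringKrullDim_nonneg_of_nontrivial)
    · obtain ⟨k, hk⟩ := Nat.exists_eq_add_of_lt h0
      have hc := (hK k).1
      rw [hk, zero_add] at hlt hc
      induction hd : ringKrullDim ((⊥ : Ideal A).Fiber R) using WithBot.recBotCoe with
      | bot => exact absurd (hc (hd.le.trans bot_le)) (by omega)
      | coe d =>
        induction d using ENat.recTopCoe with
        | top => rw [hd] at hlt; exact absurd hlt (not_lt.2 (WithBot.coe_le_coe.2 le_top))
        | coe d =>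
          rw [hd] at hlt
          change (d : WithBot ℕ∞) < ((k + 1 : ℕ) : WithBot ℕ∞) at hlt
          have : d < k + 1 := by exact_mod_cast hlt
          exact absurd (hc (hd.le.trans (show (d : WithBot ℕ∞) ≤ k by exact_mod_cast Nat.lt_succ_iff.1 this)))
            (by omega)
  · refine not_lt.1 fun hlt => ?_
    rcases Nat.eq_zero_or_pos (trd A ξ) with h0 | h0
    · rw [h0] at hlt
      exact absurd hlt (not_lt.2 ringKrullDim_nonneg_of_nontrivial)
    · obtain ⟨k, hk⟩ := Nat.exists_eq_add_of_lt h0
      have hc := (hm k).1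
      rw [hk, zero_add] at hlt hc
      induction hd : ringKrullDim (m.Fiber R) using WithBot.recBotCoe with
      | bot => exact absurd (hc (hd.le.trans bot_le)) (by omega)
      | coe d =>
        induction d using ENat.recTopCoe with
        | top => rw [hd] at hlt; exact absurd hlt (not_lt.2 (WithBot.coe_le_coe.2 le_top))
        | coe d =>
          rw [hd] at hlt
          change (d : WithBot ℕ∞) < ((k + 1 : ℕ) : WithBot ℕ∞) at hlt
          have : d < k + 1 := by exact_mod_cast hlt
          exact absurd (hc (hd.le.trans (show (d : WithBot ℕ∞) ≤ k by exact_mod_cast Nat.lt_succ_iff.1 this)))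
            (by omega)

end Groth.Agent.FlatMorDim
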