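import Groth.Agent.FlatMorDim.LocalDim
import Groth.Agent.FlatMorDim.FlatLift
import Groth.Agent.EGA43.FibDepth.ConsAffine
import Groth.Agent.H8ProCons.ConsTopology
import Mathlib.AlgebraicGeometry.Morphisms.Flat
import Mathlib.AlgebraicGeometry.Morphisms.UniversallyOpen

/-!
# Semicontinuity of the dimension of the fibres
-/

universe u

set_option autoImplicit false
set_option backward.isDefEq.respectTransparency false

open CategoryTheory CategoryTheory.Limits AlgebraicGeometry TopologicalSpace Topology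

namespace Groth.Agent.FlatMorDim

open Groth.Agent

variable {X S : Scheme.{u}} (f : X ⟶ S) [LocallyOfFiniteType f]

theorem fiber_dim_le_iff (s : S) (n : ℕ) :
    topologicalKrullDim ↥(f.fiber s) ≤ (n : WithBot ℕ∞) ↔
      ∀ x, f x = s → DimLib.trdegHom (f.residueFieldMap x).hom ≤ n := by
  have : LocallyOfFiniteType (f.fiberToSpecResidueField s) :=
    inferInstanceAs (LocallyOfFiniteType (Limits.pullback.snd f (S.fromSpecResidueField s)))
  rw [DimLib.topologicalKrullDim_eq_iSup (k := S.residueField s) (f.fiberToSpecResidueField s),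
    iSup_le_iff]
  constructor
  · rintro h x rfl
    have := h (f.asFiber x)
    rw [EGA43.FibDepth.ptDim_fiber f, f.fiberι_asFiber] at this
    exact_mod_cast this
  · intro h z
    rw [EGA43.FibDepth.ptDim_fiber f]
    exact_mod_cast h _ ((f.range_fiberι s).le ⟨z, rfl⟩)

theorem fiber_dim_le_bot_iff (s : S) :
    topologicalKrullDim ↥(f.fiber s) ≤ ⊥ ↔ s ∉ Set.range f := by
  have : LocallyOfFiniteType (f.fiberToSpecResidueField s) :=
    inferInstanceAs (LocallyOfFiniteType (Limits.pullback.snd f (S.fromSpecResidueField s)))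
  rw [DimLib.topologicalKrullDim_eq_iSup (k := S.residueField s) (f.fiberToSpecResidueField s),
    iSup_le_iff]
  constructor
  · rintro h ⟨x, rfl⟩
    simpa using h (f.asFiber x)
  · intro h z
    exact absurd ⟨_, (f.range_fiberι s).le ⟨z, rfl⟩⟩ h

theorem trdegHom_le_of_fibreDimAt_le (x : X) (n : ℕ)
    (h : FlatMor.fibreDimAt f x ≤ (n : WithBot ℕ∞)) :
    DimLib.trdegHom (f.residueFieldMap x).hom ≤ n :=
  (fibreDimAt_le_iff f x n).1 h x rfl specializes_rfl

/-- Upper semicontinuity of the fibre dimension on the target, for closed maps. -/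
theorem isOpen_fiber_dim_le [UniversallyClosed f] (c : WithBot ℕ∞) :
    IsOpen {s : S | topologicalKrullDim ↥(f.fiber s) ≤ c} := by
  induction c using WithBot.recBotCoe with
  | bot =>
    simp only [fiber_dim_le_bot_iff]
    exact f.isClosedMap.isClosed_range.isOpen_compl
  | coe c =>
    induction c using ENat.recTopCoe with
    | top => simp
    | coe n =>
      have : {s : S | topologicalKrullDim ↥(f.fiber s) ≤ ((n : ℕ∞) : WithBot ℕ∞)} =
          (f '' {x | FlatMor.fibreDimAt f x ≤ (n : WithBot ℕ∞)}ᶜ)ᶜ := by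
        ext s
        simp only [Set.mem_ofPred_eq, Set.mem_compl_iff, Set.mem_image, not_exists, not_and]
        rw [show ((n : ℕ∞) : WithBot ℕ∞) = (n : WithBot ℕ∞) from rfl, fiber_dim_le_iff f s n]
        constructor
        · intro h x hx hxs
          exact hx ((fibreDimAt_le_iff f x n).2 fun x' hx' _ => h x' (hx'.trans hxs))
        · intro h x hx
          refine trdegHom_le_of_fibreDimAt_le f x n (by_contra fun h' => h x h' hx)
      rw [this]
      exact (f.isClosedMap _ (isOpen_fibreDimAt_le f n).isClosed_compl).isOpen_compl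

/-- Generisations along a flat morphism do not lose transcendence degree. -/
theorem exists_specializes_trdegHom_le [Flat f] (x : X) (s' : S) (hs : s' ⤳ f x) :
    ∃ x', x' ⤳ x ∧ f x' = s' ∧
      DimLib.trdegHom (f.residueFieldMap x).hom ≤ DimLib.trdegHom (f.residueFieldMap x').hom := by
  obtain ⟨V, hV, hxV, -⟩ := exists_isAffineOpen_mem_and_subset (x := f x) (U := ⊤) (Set.mem_univ _)
  obtain ⟨U, hU, hxU, hUV'⟩ := exists_isAffineOpen_mem_and_subset (x := x) (U := f ⁻¹ᵁ V) hxV
  have e : U ≤ f ⁻¹ᵁ V := hUV'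
  have hflat : (f.appLE V U e).hom.Flat := HasRingHomProperty.appLE @Flat f inferInstance ⟨V, hV⟩ ⟨U, hU⟩ e
  have hft := LocallyOfFiniteType.finiteType_appLE f hV hU e
  algebraize [(f.appLE V U e).hom]
  have hs'V : s' ∈ V := hs.mem_open V.isOpen hxV
  let p' := hV.primeIdealOf ⟨s', hs'V⟩
  have hle : p'.asIdeal ≤ (hU.primeIdealOf ⟨x, hxU⟩).asIdeal.comap
      (algebraMap Γ(S, V) Γ(X, U)) := by
    show p'.asIdeal ≤ (hU.primeIdealOf ⟨x, hxU⟩).asIdeal.comap (f.appLE V U e).hom
    rw [EGA43.FibDepth.comap_primeIdealOf f hV hU e hxU]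
    refine (PrimeSpectrum.le_iff_specializes p' _).2 ?_
    rw [← hV.fromSpec.isOpenEmbedding.isInducing.specializes_iff, hV.fromSpec_primeIdealOf,
      hV.fromSpec_primeIdealOf]
    exact hs
  obtain ⟨q', hq'le, hq'p, htr⟩ :=
    exists_le_trd_le (hU.primeIdealOf ⟨x, hxU⟩) p'.asIdeal hle
  have hy : hU.fromSpec q' ∈ U := hU.range_fromSpec.le ⟨q', rfl⟩
  have hq : hU.primeIdealOf ⟨hU.fromSpec q', hy⟩ = q' :=
    hU.fromSpec.isOpenEmbedding.injective (hU.fromSpec_primeIdealOf ⟨hU.fromSpec q', hy⟩)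
  refine ⟨hU.fromSpec q', ?_, ?_, ?_⟩
  · have h' := ((PrimeSpectrum.le_iff_specializes _ _).1
      (show q' ≤ hU.primeIdealOf ⟨x, hxU⟩ from hq'le)).map hU.fromSpec.continuous
    rwa [hU.fromSpec_primeIdealOf] at h'
  · have h1 : (hU.primeIdealOf ⟨hU.fromSpec q', hy⟩).asIdeal.comap (f.appLE V U e).hom =
        (hV.primeIdealOf ⟨f (hU.fromSpec q'), e hy⟩).asIdeal :=
      EGA43.FibDepth.comap_primeIdealOf f hV hU e hy
    rw [hq] at h1
    have h' : hV.primeIdealOf ⟨f (hU.fromSpec q'), e hy⟩ = p' :=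
      PrimeSpectrum.ext (h1.symm.trans hq'p)
    have := congrArg hV.fromSpec h'
    rwa [hV.fromSpec_primeIdealOf, hV.fromSpec_primeIdealOf] at this
  · rw [EGA43.FibDepth.trdegHom_residueFieldMap f hV hU e hxU,
      EGA43.FibDepth.trdegHom_residueFieldMap f hV hU e hy, hq]
    exact htr

/-- For a flat morphism of finite presentation, near the image of a point of large fibre dimension
all fibres have large dimension. -/
theorem exists_open_forall_exists_lt [Flat f] [LocallyOfFinitePresentation f] (x : X) (n : ℕ)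
    (hx : n < DimLib.trdegHom (f.residueFieldMap x).hom) :
    ∃ O : Set S, IsOpen O ∧ f x ∈ O ∧
      ∀ s ∈ O, ∃ y, f y = s ∧ n < DimLib.trdegHom (f.residueFieldMap y).hom := by
  obtain ⟨V, hV, hxV, -⟩ := exists_isAffineOpen_mem_and_subset (x := f x) (U := ⊤) (Set.mem_univ _)
  obtain ⟨U, hU, hxU, hUV'⟩ := exists_isAffineOpen_mem_and_subset (x := x) (U := f ⁻¹ᵁ V) hxV
  have e : U ≤ f ⁻¹ᵁ V := hUV'
  have hflat : (f.appLE V U e).hom.Flat := HasRingHomProperty.appLE @Flat f inferInstance ⟨V, hV⟩ ⟨U, hU⟩ e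
  have hfp := f.finitePresentation_appLE hV hU e
  algebraize [(f.appLE V U e).hom]
  let W := (EGA43.FibDepth.trdLocus Γ(S, V) (Set.univ : Set (PrimeSpectrum Γ(X, U))) n)ᶜ
  let E := PrimeSpectrum.comap (algebraMap Γ(S, V) Γ(X, U)) '' W
  have hW : ∀ q, q ∈ W ↔ ∃ q' : PrimeSpectrum Γ(X, U), q'.asIdeal ≤ q.asIdeal ∧
      q'.asIdeal.comap (algebraMap Γ(S, V) Γ(X, U)) = q.asIdeal.comap (algebraMap Γ(S, V) Γ(X, U)) ∧
      n < EGA43.FibDepth.trd Γ(S, V) q' := fun q => by
    simp [W, EGA43.FibDepth.trdLocus]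
  have hWc : IsConstructible W :=
    (EGA43.FibDepth.isConstructible_trdLocus IsConstructible.univ n).compl
  have hEc : IsConstructible E := PrimeSpectrum.isConstructible_comap_image
    (RingHom.finitePresentation_algebraMap.2 inferInstance) hWc
  have hEg : StableUnderGeneralization E := by
    rintro P P'' hle ⟨q, hq, rfl⟩
    obtain ⟨q₁, hq₁, heq, htr⟩ := (hW q).1 hq
    have hle' : P''.asIdeal ≤ q₁.asIdeal.comap (algebraMap Γ(S, V) Γ(X, U)) := by
      rw [heq]; exact (PrimeSpectrum.le_iff_specializes P'' _).2 hle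
    obtain ⟨q', -, hq'p, htr'⟩ := exists_le_trd_le q₁ P''.asIdeal hle'
    exact ⟨q', (hW q').2 ⟨q', le_rfl, rfl, htr.trans_le htr'⟩, PrimeSpectrum.ext hq'p⟩
  have hEo : IsOpen E :=
    PrimeSpectrum.isOpen_of_stableUnderGeneralization_of_isConstructible hEg hEc
  refine ⟨hV.fromSpec '' E, hV.fromSpec.isOpenEmbedding.isOpenMap _ hEo, ?_, ?_⟩
  · refine ⟨_, ⟨hU.primeIdealOf ⟨x, hxU⟩, (hW _).2 ⟨_, le_rfl, rfl, ?_⟩, rfl⟩, ?_⟩
    · rwa [← EGA43.FibDepth.trdegHom_residueFieldMap f hV hU e hxU]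
    · rw [show PrimeSpectrum.comap (algebraMap Γ(S, V) Γ(X, U)) (hU.primeIdealOf ⟨x, hxU⟩) =
        hV.primeIdealOf ⟨f x, e hxU⟩ from
          PrimeSpectrum.ext (EGA43.FibDepth.comap_primeIdealOf f hV hU e hxU),
        hV.fromSpec_primeIdealOf]
  · rintro _ ⟨_, ⟨q, hq, rfl⟩, rfl⟩
    obtain ⟨q', -, heq, htr⟩ := (hW q).1 hq
    have hy : hU.fromSpec q' ∈ U := hU.range_fromSpec.le ⟨q', rfl⟩
    have hq' : hU.primeIdealOf ⟨hU.fromSpec q', hy⟩ = q' :=
      hU.fromSpec.isOpenEmbedding.injective (hU.fromSpec_primeIdealOf ⟨hU.fromSpec q', hy⟩)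
    refine ⟨hU.fromSpec q', ?_, ?_⟩
    · have h1 : PrimeSpectrum.comap (f.appLE V U e).hom (hU.primeIdealOf ⟨hU.fromSpec q', hy⟩) =
          hV.primeIdealOf ⟨f (hU.fromSpec q'), e hy⟩ :=
        PrimeSpectrum.ext (EGA43.FibDepth.comap_primeIdealOf f hV hU e hy)
      rw [hq'] at h1
      rw [show PrimeSpectrum.comap (algebraMap Γ(S, V) Γ(X, U)) q =
        PrimeSpectrum.comap (f.appLE V U e).hom q' from PrimeSpectrum.ext heq.symm, h1,
        hV.fromSpec_primeIdealOf]
    · rw [EGA43.FibDepth.trdegHom_residueFieldMap f hV hU e hy, hq']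
      exact htr

/-- Lower semicontinuity of the fibre dimension for flat morphisms of finite presentation. -/
theorem isOpen_lt_fiber_dim [Flat f] [LocallyOfFinitePresentation f] (c : WithBot ℕ∞) :
    IsOpen {s : S | c < topologicalKrullDim ↥(f.fiber s)} := by
  induction c using WithBot.recBotCoe with
  | bot =>
    simp only [← not_le, fiber_dim_le_bot_iff, not_not]
    exact f.isOpenMap.isOpen_range
  | coe c =>
    induction c using ENat.recTopCoe with
    | top => simp
    | coe n =>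
      refine isOpen_iff_forall_mem_open.2 fun s hs => ?_
      have hs' : ¬ topologicalKrullDim ↥(f.fiber s) ≤ (n : WithBot ℕ∞) := not_le.2 hs
      rw [fiber_dim_le_iff] at hs'
      push Not at hs'
      obtain ⟨x, rfl, hx⟩ := hs'
      obtain ⟨O, hO, hmem, h⟩ := exists_open_forall_exists_lt f x n hx
      refine ⟨O, fun s hs => ?_, hO, hmem⟩
      obtain ⟨y, rfl, hy⟩ := h s hs
      show ((n : ℕ∞) : WithBot ℕ∞) < _
      refine not_le.1 fun h' => ?_
      exact absurd ((fiber_dim_le_iff f (f y) n).1 h' y rfl) (not_le.2 hy)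

/-- A dense retrocompact open contains a generisation of every point. -/
theorem exists_specializes_mem (U : S.Opens) (hU : Dense (U : Set S))
    (hc : IsRetrocompact (U : Set S)) (s : S) : ∃ s' ∈ U, s' ⤳ s := by
  obtain ⟨V, hV, hsV, -⟩ := exists_isAffineOpen_mem_and_subset (x := s) (U := ⊤) (Set.mem_univ _)
  let E := hV.fromSpec ⁻¹' (U : Set S)
  have hEo : IsOpen E := U.isOpen.preimage hV.fromSpec.continuous
  have hEc : IsCompact E := by
    rw [hV.fromSpec.isOpenEmbedding.isEmbedding.isCompact_iff, Set.image_preimage_eq_inter_range,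
      hV.range_fromSpec]
    exact hc hV.isCompact V.isOpen
  have hx : hV.primeIdealOf ⟨s, hsV⟩ ∈ closure E := by
    rw [← hV.fromSpec.isOpenEmbedding.isOpenMap.preimage_closure_eq_closure_preimage
      hV.fromSpec.continuous]
    exact hU _
  have hcl : IsClosed[constructibleTopology (Spec Γ(S, V))] E :=
    (@isOpen_compl_iff _ _ (constructibleTopology (Spec Γ(S, V)))).1
      (H8ProCons.isOpen_cons_compl_of_isCompact hEo hEc)
  obtain ⟨y, hy, hys⟩ := H8ProCons.exists_specializes_of_mem_closure hcl hx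
  refine ⟨hV.fromSpec y, hy, ?_⟩
  have := hys.map hV.fromSpec.continuous
  rwa [hV.fromSpec_primeIdealOf] at this

theorem fibreDimAt_le_of_le_over_dense_open [Flat f] (U : S.Opens) (hU : Dense (U : Set S)) (e : ℕ)
    (hle : ∀ x : X, f x ∈ U → FlatMor.fibreDimAt f x ≤ (e : WithBot ℕ∞))
    (h : LocallyOfFinitePresentation f ∨ IsRetrocompact (U : Set S)) (x : X) :
    FlatMor.fibreDimAt f x ≤ (e : WithBot ℕ∞) := by
  rw [fibreDimAt_le_iff]
  intro x' _ _
  by_contra hlt
  push Not at hlt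
  rcases h with h | h
  · obtain ⟨O, hO, hmem, hy⟩ := exists_open_forall_exists_lt f x' e hlt
    obtain ⟨s, hs, hsU⟩ := hU.inter_open_nonempty O hO ⟨_, hmem⟩
    obtain ⟨y, rfl, hy⟩ := hy s hs
    exact absurd (trdegHom_le_of_fibreDimAt_le f y e (hle y hsU)) (not_le.2 hy)
  · obtain ⟨s', hs', hspec⟩ := exists_specializes_mem U hU h (f x')
    obtain ⟨y, -, rfl, hy⟩ := exists_specializes_trdegHom_le f x' s' hspec
    exact absurd (trdegHom_le_of_fibreDimAt_le f y e (hle y hs')) (not_le.2 (hlt.trans_le hy))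

end Groth.Agent.FlatMorDim
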