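import Groth.Agent.FlatMorDim.Generic
import Groth.Agent.DimLib.BaseChange

/-! The dimension of the fibres is invariant under base change. -/

universe u

open AlgebraicGeometry CategoryTheory Limits

namespace Groth.Agent.FlatMorDim

set_option backward.isDefEq.respectTransparency false

theorem fiber_dim_baseChange {X X' Y Y' : Scheme.{u}} {g' : X' ⟶ X} {f' : X' ⟶ Y'} {f : X ⟶ Y}
    {g : Y' ⟶ Y} (hc : IsPullback g' f' f g) [LocallyOfFiniteType f] (y' : Y') :
    topologicalKrullDim ↥(f'.fiber y') = topologicalKrullDim ↥(f.fiber (g y')) := by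
  letI : Algebra (Y.residueField (g y')) (Y'.residueField y') := (g.residueFieldMap y').hom.toAlgebra
  have hsq := isPullback_fiberToSpecResidueField_of_isPullback hc y'
  haveI : LocallyOfFiniteType (f.fiberToSpecResidueField (g y')) :=
    inferInstanceAs (LocallyOfFiniteType (pullback.snd f (Y.fromSpecResidueField (g y'))))
  have h := DimLib.topologicalKrullDim_bc (k := Y.residueField (g y'))
    (f.fiberToSpecResidueField (g y')) (Y'.residueField y')
  rw [← h]
  exact IsHomeomorph.topologicalKrullDim_eq _ (Scheme.homeoOfIso hsq.isoPullback).isHomeomorph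

end Groth.Agent.FlatMorDim
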