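import Groth.Agent.FlatMorDim.Semicont
import Groth.Agent.FlatMorGeneric.Scheme
import Groth.Agent.FlatMorThick.Lft
import Groth.Agent.Props12.KerReduced
import Groth.Agent.EGA43.Cons.FibreClosureScheme

/-!
# The dimension of the fibres near the generic point and constructibility
-/

universe u

set_option autoImplicit false
set_option backward.isDefEq.respectTransparency false

open CategoryTheory CategoryTheory.Limits AlgebraicGeometry TopologicalSpace Topology

namespace Groth.Agent.FlatMorDim

open Groth.Agent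

/-- Fibres do not change under base change along a preimmersion. -/
theorem exists_fiberIso_of_pullback {X X' Y Y' : Scheme.{u}} {iX : X ⟶ X'} {iY : Y ⟶ Y'} {f : X ⟶ Y}
    {f' : X' ⟶ Y'} (hc : IsPullback iX f f' iY) [IsPreimmersion iY] (y : Y) :
    Nonempty (f.fiber y ≅ f'.fiber (iY y)) := by
  have := FlatMorThick.isIso_residueFieldMap iY y
  let e := Spec.map (iY.residueFieldMap y)
  have h1 := (IsPullback.of_hasPullback f (Y.fromSpecResidueField y)).paste_horiz hc
  have h2 : IsPullback (pullback.fst f (Y.fromSpecResidueField y) ≫ iX)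
      (pullback.snd f (Y.fromSpecResidueField y) ≫ e) f' (Y'.fromSpecResidueField (iY y)) := by
    refine h1.of_iso (Iso.refl _) (Iso.refl _) (asIso e) (Iso.refl _) ?_ ?_ ?_ ?_
    · simp
    · simp [e]
    · simp
    · simp [e, Scheme.Hom.SpecMap_residueFieldMap_fromSpecResidueField]
  exact ⟨h2.isoPullback⟩

theorem fiber_dim_eq_of_pullback {X X' Y Y' : Scheme.{u}} {iX : X ⟶ X'} {iY : Y ⟶ Y'} {f : X ⟶ Y}
    {f' : X' ⟶ Y'} (hc : IsPullback iX f f' iY) [IsPreimmersion iY] (y : Y) :
    topologicalKrullDim ↥(f.fiber y) = topologicalKrullDim ↥(f'.fiber (iY y)) := by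
  obtain ⟨e⟩ := exists_fiberIso_of_pullback hc y
  exact IsHomeomorph.topologicalKrullDim_eq _ (Scheme.homeoOfIso e).isHomeomorph

theorem fiber_dim_le_of_specializes {X Y : Scheme.{u}} (f : X ⟶ Y) [Flat f] [LocallyOfFiniteType f]
    {y' y : Y} (h : y' ⤳ y) (n : ℕ) (hn : topologicalKrullDim ↥(f.fiber y') ≤ (n : WithBot ℕ∞)) :
    topologicalKrullDim ↥(f.fiber y) ≤ (n : WithBot ℕ∞) := by
  rw [fiber_dim_le_iff] at hn ⊢
  rintro x rfl
  obtain ⟨x', -, hx', hle⟩ := exists_specializes_trdegHom_le f x y' h
  exact hle.trans (hn x' hx')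

theorem exists_open_fiber_dim_eq_of_flat {X Y : Scheme.{u}} (f : X ⟶ Y) [Flat f]
    [LocallyOfFinitePresentation f] (η : Y) (hη : ∀ y, η ⤳ y) (n : ℕ)
    (h : topologicalKrullDim ↥(f.fiber η) = (n : WithBot ℕ∞)) :
    ∃ O : Y.Opens, η ∈ O ∧ ∀ y ∈ O, topologicalKrullDim ↥(f.fiber y) = (n : WithBot ℕ∞) := by
  have : LocallyOfFiniteType f := inferInstance
  let c : WithBot ℕ∞ := match n with
    | 0 => ⊥
    | m + 1 => (m : WithBot ℕ∞)
  refine ⟨⟨_, isOpen_lt_fiber_dim f c⟩, ?_, fun y hy => ?_⟩
  · show c < _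
    rw [h]
    rcases n with _ | m
    · exact WithBot.bot_lt_coe _
    · show ((m : ℕ) : WithBot ℕ∞) < _
      exact_mod_cast Nat.lt_succ_self m
  · refine le_antisymm (fiber_dim_le_of_specializes f (hη y) n h.le) ?_
    have hy' : c < topologicalKrullDim ↥(f.fiber y) := hy
    rcases n with _ | m
    · induction hd : topologicalKrullDim ↥(f.fiber y) using WithBot.recBotCoe with
      | bot => simp [c, hd] at hy'
      | coe d => exact WithBot.coe_le_coe.2 bot_le
    · induction hd : topologicalKrullDim ↥(f.fiber y) using WithBot.recBotCoe with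
      | bot => simp [c, hd] at hy'
      | coe d =>
        induction d using ENat.recTopCoe with
        | top => exact_mod_cast le_top
        | coe k =>
          rw [hd] at hy'
          change ((m : ℕ∞) : WithBot ℕ∞) < _ at hy'
          norm_cast at hy' ⊢

theorem exists_open_fiber_dim_eq {X Y : Scheme.{u}} (f : X ⟶ Y) [IrreducibleSpace ↑Y]
    [LocallyOfFiniteType f] [QuasiCompact f] (n : ℕ)
    (h : topologicalKrullDim ↥(f.fiber (genericPoint ↑Y)) = (n : WithBot ℕ∞)) :
    ∃ V : Y.Opens, (V : Set ↑Y).Nonempty ∧ ∀ y ∈ V, topologicalKrullDim ↥(f.fiber y) = n := by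
  let i := Y.nilradical.subschemeι
  have hred : IsReduced Y.nilradical.subscheme := by
    rw [← Scheme.IdealSheafData.vanishingIdeal_top]
    exact Props12.isReduced_subscheme_vanishingIdeal _
  have hs : Surjective i := ⟨Set.range_eq_univ.1 (by
    rw [Scheme.IdealSheafData.range_subschemeι, Scheme.support_nilradical]; rfl)⟩
  have hio := FlatMorThick.universallyOpen_of_thickening i
  let g := pullback.snd f i
  have : LocallyOfFiniteType g := MorphismProperty.pullback_snd _ _ inferInstance
  have : QuasiCompact g := MorphismProperty.pullback_snd _ _ inferInstance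
  obtain ⟨η, hη⟩ := i.surjective (genericPoint ↑Y)
  have hgen : ∀ z, η ⤳ z := fun z => by
    rw [← i.isClosedEmbedding.isEmbedding.isInducing.specializes_iff, hη]
    exact genericPoint_specializes _
  obtain ⟨W, hWd, hflat, hlfp⟩ := FlatMorGeneric.exists_dense_flat_lfp g
  have : Nonempty Y.nilradical.subscheme := ⟨η⟩
  obtain ⟨z, hz⟩ := hWd.nonempty
  have hηW : η ∈ W := (hgen z).mem_open W.isOpen hz
  have hgenW : ∀ w : W.toScheme, (⟨η, hηW⟩ : W.toScheme) ⤳ w := fun w => by
    rw [← W.ι.isOpenEmbedding.isEmbedding.isInducing.specializes_iff]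
    exact hgen _
  have hd : ∀ w : W.toScheme, topologicalKrullDim ↥((g ∣_ W).fiber w) =
      topologicalKrullDim ↥(f.fiber (i (W.ι w))) := fun w =>
    (fiber_dim_eq_of_pullback (isPullback_morphismRestrict g W).flip w).trans
      (fiber_dim_eq_of_pullback (IsPullback.of_hasPullback f i) (W.ι w))
  obtain ⟨O, hηO, hO⟩ := exists_open_fiber_dim_eq_of_flat (g ∣_ W) ⟨η, hηW⟩ hgenW n
    (by rw [hd, show i (W.ι ⟨η, hηW⟩) = genericPoint ↑Y from hη]; exact h)
  refine ⟨⟨i '' (W.ι '' (O : Set W.toScheme)),
    i.isOpenMap _ (W.ι.isOpenEmbedding.isOpenMap _ O.isOpen)⟩, ⟨_, _, ⟨_, hηO, rfl⟩, rfl⟩, ?_⟩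
  rintro _ ⟨_, ⟨w, hw, rfl⟩, rfl⟩
  rw [← hd]
  exact hO w hw

/-- The level sets of the fibre dimension are constructible. -/
theorem isLocallyConstructible_setOf_fiber_dim_le {X Y : Scheme.{u}} (f : X ⟶ Y)
    [LocallyOfFinitePresentation f] [QuasiCompact f] (n : ℕ) :
    IsLocallyConstructible {y : Y | topologicalKrullDim ↥(f.fiber y) ≤ (n : WithBot ℕ∞)} := by
  have : LocallyOfFiniteType f := inferInstance
  have hW : IsLocallyConstructible {x : X | ¬ FlatMor.fibreDimAt f x ≤ (n : WithBot ℕ∞)} := by
    refine EGA43.Cons.isLocallyConstructible_of_forall_fromSpec fun x => ?_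
    obtain ⟨V, hV, hfx, -⟩ := exists_isAffineOpen_mem_and_subset (x := f x) (U := ⊤) trivial
    obtain ⟨U, hU, hxU, e'⟩ := exists_isAffineOpen_mem_and_subset (x := x) (U := f ⁻¹ᵁ V) hfx
    have e : U ≤ f ⁻¹ᵁ V := e'
    have hfp := f.finitePresentation_appLE hV hU e
    algebraize [(f.appLE V U e).hom]
    refine ⟨U, hU, hxU, ?_⟩
    suffices he : (hU.fromSpec ⁻¹' {x : X | ¬ FlatMor.fibreDimAt f x ≤ (n : WithBot ℕ∞)} :
        Set (PrimeSpectrum Γ(X, U))) =
        (EGA43.FibDepth.trdLocus Γ(Y, V) (Set.univ : Set (PrimeSpectrum Γ(X, U))) n)ᶜ by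
      rw [he]
      exact (EGA43.FibDepth.isConstructible_trdLocus (A := Γ(Y, V)) (R := Γ(X, U))
        IsConstructible.univ n).compl
    ext (q : PrimeSpectrum Γ(X, U))
    have hy : hU.fromSpec q ∈ U := hU.range_fromSpec.le ⟨q, rfl⟩
    have hq : hU.primeIdealOf ⟨hU.fromSpec q, hy⟩ = q :=
      hU.fromSpec.isOpenEmbedding.injective (hU.fromSpec_primeIdealOf ⟨hU.fromSpec q, hy⟩)
    show ¬ FlatMor.fibreDimAt f (hU.fromSpec q) ≤ _ ↔ ¬ _
    refine not_congr ?_
    rw [fibreDimAt_le_iff]
    have hp : ∀ y (hy : y ∈ U), (hU.primeIdealOf ⟨y, hy⟩).asIdeal.comap (f.appLE V U e).hom =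
        (hV.primeIdealOf ⟨f y, e hy⟩).asIdeal :=
      fun y hy => EGA43.FibDepth.comap_primeIdealOf f hV hU e hy
    constructor
    · intro h q' hle hq' _
      have hy' : hU.fromSpec q' ∈ U := hU.range_fromSpec.le ⟨q', rfl⟩
      have hq'' : hU.primeIdealOf ⟨hU.fromSpec q', hy'⟩ = q' :=
        hU.fromSpec.isOpenEmbedding.injective (hU.fromSpec_primeIdealOf ⟨hU.fromSpec q', hy'⟩)
      rw [← hq'', ← EGA43.FibDepth.trdegHom_residueFieldMap f hV hU e hy']
      refine h _ ?_ (((PrimeSpectrum.le_iff_specializes q' q).1 hle).map hU.fromSpec.continuous)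
      have h1 := hp _ hy'
      have h2 := hp _ hy
      rw [hq''] at h1
      rw [hq] at h2
      have h' : hV.primeIdealOf ⟨f (hU.fromSpec q'), e hy'⟩ =
          hV.primeIdealOf ⟨f (hU.fromSpec q), e hy⟩ :=
        PrimeSpectrum.ext (by rw [← h1, ← h2]; exact hq')
      have := congrArg hV.fromSpec h'
      rwa [hV.fromSpec_primeIdealOf, hV.fromSpec_primeIdealOf] at this
    · intro h x' hx' hs
      have hx'U : x' ∈ U := hs.mem_open U.isOpen hy
      rw [EGA43.FibDepth.trdegHom_residueFieldMap f hV hU e hx'U]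
      refine h _ ?_ ?_ trivial
      · refine (PrimeSpectrum.le_iff_specializes _ q).2 ?_
        rw [← hU.fromSpec.isOpenEmbedding.isInducing.specializes_iff, hU.fromSpec_primeIdealOf]
        exact hs
      · show Ideal.comap (f.appLE V U e).hom _ = Ideal.comap (f.appLE V U e).hom _
        rw [hp x' hx'U, ← hq, hp _ hy]
        congr 3
  convert EGA43.Cons.isLocallyConstructible_compl (f.isLocallyConstructible_image hW) using 1
  ext y
  simp only [Set.mem_ofPred_eq, Set.mem_compl_iff, Set.mem_image, not_exists, not_and]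
  rw [fiber_dim_le_iff]
  constructor
  · intro h x hx hxy
    exact hx ((fibreDimAt_le_iff f x n).2 fun x' hx' _ => h x' (hx'.trans hxy))
  · intro h x hx
    exact trdegHom_le_of_fibreDimAt_le f x n (by_contra fun h' => h x h' hx)

theorem fiber_dim_ne_top {X Y : Scheme.{u}} (f : X ⟶ Y) [LocallyOfFiniteType f] [QuasiCompact f]
    (y : Y) : ∃ N : ℕ, topologicalKrullDim ↥(f.fiber y) ≤ (N : WithBot ℕ∞) := by
  have hl : LocallyOfFiniteType (f.fiberToSpecResidueField y) :=
    inferInstanceAs (LocallyOfFiniteType (Limits.pullback.snd f (Y.fromSpecResidueField y)))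
  have := LocallyOfFiniteType.isLocallyNoetherian (f.fiberToSpecResidueField y)
  have : IsNoetherian (f.fiber y) := { }
  let M : Set (f.fiber y) := {η | ∀ z, z ⤳ η → η = z}
  have hM : M.Finite := by
    have hcl : ∀ η ∈ M, closure {η} = irreducibleComponent η := fun η hη => by
      obtain ⟨g, hg⟩ := QuasiSober.sober (S := irreducibleComponent η)
        isIrreducible_irreducibleComponent isClosed_irreducibleComponent
      exact (congrArg (fun t => closure {t}) (hη g (hg.specializes mem_irreducibleComponent))).trans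
        hg.def
    refine Set.Finite.of_finite_image (f := fun η => closure {η}) ?_ ?_
    · refine TopologicalSpace.NoetherianSpace.finite_irreducibleComponents.subset ?_
      rintro _ ⟨η, hη, rfl⟩
      show closure {η} ∈ irreducibleComponents _
      rw [hcl η hη]
      exact irreducibleComponent_mem_irreducibleComponents η
    · intro a _ b _ h
      exact (isGenericPoint_closure (x := a)).eq (isGenericPoint_def.2 h.symm)
  refine ⟨hM.toFinset.sup fun η => DimLib.ptDim (k := Y.residueField y) (f.fiberToSpecResidueField y) η,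
    DimLib.topologicalKrullDim_le_of_forall_maximal (k := Y.residueField y)
      (f.fiberToSpecResidueField y) _ fun η hη => ?_⟩
  exact_mod_cast Finset.le_sup (f := fun η =>
    DimLib.ptDim (k := Y.residueField y) (f.fiberToSpecResidueField y) η) (hM.mem_toFinset.2 hη)

/-- Each level set of the fibre dimension is locally constructible. -/
theorem isLocallyConstructible_setOf_fiber_dim_eq {X Y : Scheme.{u}} (f : X ⟶ Y)
    [LocallyOfFinitePresentation f] [QuasiCompact f] (n : WithBot ℕ∞) :
    IsLocallyConstructible {y : Y | topologicalKrullDim ↥(f.fiber y) = n} := by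
  have : LocallyOfFiniteType f := inferInstance
  have hR : IsLocallyConstructible (Set.range f) := by
    rw [← Set.image_univ]
    exact f.isLocallyConstructible_image IsConstructible.univ.isLocallyConstructible
  induction n using WithBot.recBotCoe with
  | bot =>
    convert EGA43.Cons.isLocallyConstructible_compl hR using 1
    ext y
    simp only [Set.mem_ofPred_eq, Set.mem_compl_iff, ← fiber_dim_le_bot_iff, le_bot_iff]
  | coe n =>
    induction n using ENat.recTopCoe with
    | top =>
      convert (IsConstructible.empty (X := Y)).isLocallyConstructible using 1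
      refine Set.eq_empty_iff_forall_notMem.2 fun y hy => ?_
      obtain ⟨N, hN⟩ := fiber_dim_ne_top f y
      rw [show topologicalKrullDim ↥(f.fiber y) = _ from hy] at hN
      exact absurd hN (by exact_mod_cast (ENat.natCast_lt_top N).not_ge)
    | coe n =>
      rcases n with _ | m
      · convert (isLocallyConstructible_setOf_fiber_dim_le f 0).inter hR using 1
        ext y
        simp only [Set.mem_ofPred_eq, Set.mem_inter_iff]
        rw [← not_not (a := y ∈ Set.range f), ← fiber_dim_le_bot_iff, le_bot_iff]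
        induction topologicalKrullDim ↥(f.fiber y) using WithBot.recBotCoe with
        | bot => simp
        | coe d =>
          change (d : WithBot ℕ∞) = ((0 : ℕ∞) : WithBot ℕ∞) ↔
            (d : WithBot ℕ∞) ≤ ((0 : ℕ∞) : WithBot ℕ∞) ∧ ¬(d : WithBot ℕ∞) = ⊥
          simp
      · convert (isLocallyConstructible_setOf_fiber_dim_le f (m + 1)).inter
          (EGA43.Cons.isLocallyConstructible_compl (isLocallyConstructible_setOf_fiber_dim_le f m))
          using 1
        ext y
        simp only [Set.mem_ofPred_eq, Set.mem_inter_iff, Set.mem_compl_iff]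
        induction topologicalKrullDim ↥(f.fiber y) using WithBot.recBotCoe with
        | bot => exact iff_of_false WithBot.bot_ne_coe fun h => h.2 bot_le
        | coe d =>
          change (d : WithBot ℕ∞) = (((m + 1 : ℕ) : ℕ∞) : WithBot ℕ∞) ↔
            (d : WithBot ℕ∞) ≤ (((m + 1 : ℕ) : ℕ∞) : WithBot ℕ∞) ∧
              ¬(d : WithBot ℕ∞) ≤ ((m : ℕ∞) : WithBot ℕ∞)
          induction d using ENat.recTopCoe with
          | top =>
            exact iff_of_false (fun h => (ENat.natCast_lt_top _).ne' (WithBot.coe_injective h))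
              (fun h => (ENat.natCast_lt_top _).not_ge (WithBot.coe_le_coe.1 h.1))
          | coe k => norm_cast; omega

end Groth.Agent.FlatMorDim
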