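import Groth.Agent.EGA43.DimFormula.Ring
import Groth.Agent.EGA43.FibDepth.FibreDim
import Groth.Agent.FlatMorDim.FlatLift
import Groth.Agent.FlatMor12.FlatLiftAt
import Mathlib.RingTheory.KrullDimension.NonZeroDivisors

/-!
# The fibre dimension formula for a local algebra essentially of finite type over a local domain

No Noetherian hypothesis on the base.
-/

set_option autoImplicit false
set_option backward.isDefEq.respectTransparency false
set_option linter.style.haveILetI false

universe u

open IsLocalRing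

namespace Groth.Agent.FlatMorDim.DimEq

open Groth.Agent EGA43

theorem trdeg_lt_of_essFiniteType {k L : Type u} [CommRing k] [IsDomain k] [CommRing L] [IsDomain L]
    [Algebra k L] [FaithfulSMul k L] [Algebra.EssFiniteType k L] :
    Algebra.trdeg k L < Cardinal.aleph0 ∧
      Algebra.trdeg k L = Algebra.trdeg k (Algebra.EssFiniteType.subalgebra k L) := by
  let R := Algebra.EssFiniteType.subalgebra k L
  haveI : FaithfulSMul k R := (faithfulSMul_iff_algebraMap_injective _ _).2 fun a b h =>
    FaithfulSMul.algebraMap_injective k L (congrArg Subtype.val h)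
  haveI : FaithfulSMul R L := (faithfulSMul_iff_algebraMap_injective _ _).2 Subtype.val_injective
  haveI : Algebra.IsAlgebraic R L :=
    IsLocalization.isAlgebraic _ (Algebra.EssFiniteType.submonoid k L)
  have h := trdeg_add_eq k R (A := L)
  rw [trdeg_eq_zero (R := R) (A := L), add_zero] at h
  exact ⟨h ▸ trdeg_lt_aleph0_of_finiteType, h.symm⟩

variable {A B : Type u} [CommRing A] [CommRing B] [IsDomain A] [IsDomain B] [IsLocalRing A]
  [IsLocalRing B] [Algebra A B] [IsLocalHom (algebraMap A B)] [FaithfulSMul A B]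
  [Algebra.EssFiniteType A B]

variable (A B) in
omit [IsDomain A] [IsDomain B] [FaithfulSMul A B] in
theorem isLocalization_atPrime :
    IsLocalization.AtPrime B
      ((maximalIdeal B).comap (algebraMap (Algebra.EssFiniteType.subalgebra A B) B)) := by
  let R := Algebra.EssFiniteType.subalgebra A B
  let q : Ideal R := (maximalIdeal B).comap (algebraMap R B)
  have h : Algebra.EssFiniteType.submonoid A B = q.primeCompl := by
    ext x
    show IsUnit (algebraMap R B x) ↔ x ∉ q
    rw [Ideal.mem_comap, mem_maximalIdeal, mem_nonunits_iff, not_not]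
  have h2 : IsLocalization (Algebra.EssFiniteType.submonoid A B) B := inferInstance
  rwa [h] at h2

omit [IsDomain A] [IsDomain B] [FaithfulSMul A B] in
theorem surjectiveOnStalks_val :
    (IsScalarTower.toAlgHom A (Algebra.EssFiniteType.subalgebra A B) B).toRingHom.SurjectiveOnStalks :=
  haveI := isLocalization_atPrime A B
  RingHom.surjectiveOnStalks_of_isLocalization
    (M := ((maximalIdeal B).comap (algebraMap (Algebra.EssFiniteType.subalgebra A B) B)).primeCompl) _

omit [IsDomain B] [FaithfulSMul A B] in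
/-- The transcendence degree at the closed point. -/
theorem trd_closedPoint :
    (FibDepth.trd A (closedPoint B) : Cardinal.{u}) =
      Algebra.trdeg (ResidueField A) (ResidueField B) := by
  haveI : (closedPoint B).asIdeal.LiesOver (maximalIdeal A) :=
    ⟨(maximalIdeal_comap (algebraMap A B)).symm⟩
  rw [Chevalley.trd_eq_trdeg_quotient (maximalIdeal A) (closedPoint B)]
  haveI : Algebra.EssFiniteType A (ResidueField B) := Algebra.EssFiniteType.comp A B _
  haveI : Algebra.EssFiniteType (ResidueField A) (ResidueField B) :=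
    Algebra.EssFiniteType.of_comp A _ _
  exact Cardinal.cast_toNat_of_lt_aleph0
    (trdeg_lt_of_essFiniteType (k := ResidueField A) (L := ResidueField B)).1

/-- The transcendence degree at the generic point. -/
theorem trd_bot :
    (FibDepth.trd A (⟨⊥, Ideal.isPrime_bot⟩ : PrimeSpectrum B) : Cardinal.{u}) = Algebra.trdeg A B := by
  haveI : (⊥ : Ideal B).LiesOver (⊥ : Ideal A) :=
    ⟨(Ideal.comap_bot_of_injective _ (FaithfulSMul.algebraMap_injective A B)).symm⟩
  haveI : (⟨⊥, Ideal.isPrime_bot⟩ : PrimeSpectrum B).asIdeal.LiesOver (⊥ : Ideal A) := ‹_›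
  haveI : FaithfulSMul (A ⧸ (⊥ : Ideal A)) (B ⧸ (⊥ : Ideal B)) :=
    (faithfulSMul_iff_algebraMap_injective _ _).2 (Ideal.quotientMap_injective'
      (by rw [Ideal.comap_bot_of_injective _ (FaithfulSMul.algebraMap_injective A B)]))
  rw [Chevalley.trd_eq_trdeg_quotient (⊥ : Ideal A)]
  have he := Chevalley.trdeg_eq_of_ringEquiv (RingEquiv.quotientBot A).symm (RingEquiv.quotientBot B).symm
    (rfl : ((RingEquiv.quotientBot B).symm : B →+* B ⧸ (⊥ : Ideal B)).comp (algebraMap A B) = _)
  rw [← he]
  exact Cardinal.cast_toNat_of_lt_aleph0 trdeg_lt_of_essFiniteType.1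

/-- Flatness bounds the transcendence degrees in the closed fibre by the generic one. -/
theorem trd_le_of_flat [Module.Flat A B] (P : PrimeSpectrum B) :
    FibDepth.trd A P ≤ FibDepth.trd A (⟨⊥, Ideal.isPrime_bot⟩ : PrimeSpectrum B) := by
  let R := Algebra.EssFiniteType.subalgebra A B
  haveI := isLocalization_atPrime A B
  let M := ((maximalIdeal B).comap (algebraMap R B)).primeCompl
  let φ := IsScalarTower.toAlgHom A R B
  have hφ : φ.toRingHom.SurjectiveOnStalks := surjectiveOnStalks_val
  let q₁ : PrimeSpectrum R := PrimeSpectrum.comap φ.toRingHom P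
  haveI : IsLocalization q₁.asIdeal.primeCompl (Localization.AtPrime P.asIdeal) :=
    IsLocalization.isLocalization_isLocalization_atPrime_isLocalization M
      (Localization.AtPrime P.asIdeal) P.asIdeal
  let e : Localization.AtPrime P.asIdeal ≃ₐ[R] Localization.AtPrime q₁.asIdeal :=
    IsLocalization.algEquiv q₁.asIdeal.primeCompl _ _
  haveI : Module.Flat B (Localization.AtPrime P.asIdeal) :=
    IsLocalization.flat _ P.asIdeal.primeCompl
  haveI : Module.Flat A (Localization.AtPrime P.asIdeal) := Module.Flat.trans A B _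
  haveI : Module.Flat A (Localization.AtPrime q₁.asIdeal) :=
    Module.Flat.of_linearEquiv (e.restrictScalars A).toLinearEquiv.symm
  obtain ⟨q', -, hq', hle⟩ := FlatMor12.exists_le_trd_le_of_isDomain' (A := A) q₁
  rw [← FibDepth.trd_comap_of_surjectiveOnStalks φ hφ P]
  refine hle.trans ?_
  have hb : PrimeSpectrum.comap φ.toRingHom (⟨⊥, Ideal.isPrime_bot⟩ : PrimeSpectrum B) =
      (⟨⊥, Ideal.isPrime_bot⟩ : PrimeSpectrum R) :=
    PrimeSpectrum.ext (Ideal.comap_bot_of_injective _ Subtype.val_injective)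
  rw [← FibDepth.trd_comap_of_surjectiveOnStalks φ hφ, hb]
  refine FibDepth.trd_mono bot_le (hq'.trans ?_)
  exact (Ideal.comap_bot_of_injective _ fun a b h =>
    FaithfulSMul.algebraMap_injective A B (congrArg Subtype.val h)).symm

/-- Semicontinuity: some point of the closed fibre has at least the generic transcendence degree. -/
theorem exists_le_trd :
    ∃ P : PrimeSpectrum B, P.asIdeal.comap (algebraMap A B) = maximalIdeal A ∧
      FibDepth.trd A (⟨⊥, Ideal.isPrime_bot⟩ : PrimeSpectrum B) ≤ FibDepth.trd A P := by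
  let R := Algebra.EssFiniteType.subalgebra A B
  let φ := IsScalarTower.toAlgHom A R B
  haveI := isLocalization_atPrime A B
  let q : PrimeSpectrum R := PrimeSpectrum.comap φ.toRingHom (closedPoint B)
  have hφ : φ.toRingHom.SurjectiveOnStalks := surjectiveOnStalks_val
  by_contra hne
  push Not at hne
  obtain ⟨n, hn⟩ := Nat.exists_eq_succ_of_ne_zero (Nat.ne_zero_of_lt
    (hne (closedPoint B) (maximalIdeal_comap (algebraMap A B))))
  have hmem : q ∈ {q : PrimeSpectrum R | ∀ q' : PrimeSpectrum R, q'.asIdeal ≤ q.asIdeal →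
      q'.asIdeal.comap (algebraMap A R) = q.asIdeal.comap (algebraMap A R) →
        FibDepth.trd A q' ≤ n} := by
    intro q' hle hc
    haveI := q'.isPrime
    let M := ((maximalIdeal B).comap (algebraMap R B)).primeCompl
    have hdis : Disjoint (M : Set R) q'.asIdeal := Set.disjoint_left.2 fun x hx hx' => hx (hle hx')
    let P : PrimeSpectrum B := ⟨q'.asIdeal.map (algebraMap R B),
      IsLocalization.isPrime_of_isPrime_disjoint M B _ inferInstance hdis⟩
    have hP : PrimeSpectrum.comap φ.toRingHom P = q' :=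
      PrimeSpectrum.ext (IsLocalization.under_map_of_isPrime_disjoint M B ‹_› hdis)
    rw [← hP, FibDepth.trd_comap_of_surjectiveOnStalks φ hφ]
    have := hne P (by
      rw [IsScalarTower.algebraMap_eq A R B, ← Ideal.comap_comap]
      show (PrimeSpectrum.comap φ.toRingHom P).asIdeal.comap (algebraMap A R) = _
      rw [hP, hc]
      show (Ideal.comap (algebraMap R B) (maximalIdeal B)).comap (algebraMap A R) = _
      rw [Ideal.comap_comap, ← IsScalarTower.algebraMap_eq, maximalIdeal_comap])
    omega
  have hbot := ((PrimeSpectrum.le_iff_specializes (⟨⊥, Ideal.isPrime_bot⟩ : PrimeSpectrum R) q).1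
    bot_le).mem_open (FibDepth.isOpen_trd_le n) hmem ⟨⊥, Ideal.isPrime_bot⟩ le_rfl rfl
  have hb : PrimeSpectrum.comap φ.toRingHom (⟨⊥, Ideal.isPrime_bot⟩ : PrimeSpectrum B) =
      (⟨⊥, Ideal.isPrime_bot⟩ : PrimeSpectrum R) :=
    PrimeSpectrum.ext (Ideal.comap_bot_of_injective _ Subtype.val_injective)
  rw [← hb, FibDepth.trd_comap_of_surjectiveOnStalks φ hφ] at hbot
  omega

omit [IsDomain A] [IsDomain B] [FaithfulSMul A B] [Algebra.EssFiniteType A B] in
theorem map_maximalIdeal_le :
    Ideal.map (algebraMap A B) (maximalIdeal A) ≤ maximalIdeal B :=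
  Ideal.map_le_iff_le_comap.2 fun a ha => map_nonunit (algebraMap A B) a ha

omit [IsDomain B] [FaithfulSMul A B] in
/-- The formula along a prime of the closed fibre. -/
theorem fibre_formula (P : PrimeSpectrum B)
    (hP : P.asIdeal.comap (algebraMap A B) = maximalIdeal A) :
    ringKrullDim (B ⧸ P.asIdeal) + (FibDepth.trd A (closedPoint B) : WithBot ℕ∞) =
      (FibDepth.trd A P : WithBot ℕ∞) := by
  let I := Ideal.map (algebraMap A B) (maximalIdeal A)
  let A' := A ⧸ maximalIdeal A
  let B' := B ⧸ I
  let _ : Algebra A' B' :=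
    (Ideal.quotientMap I (algebraMap A B) (Ideal.le_comap_map)).toAlgebra
  haveI : IsScalarTower A A' B' := .of_algebraMap_eq fun _ => rfl
  haveI : Algebra.EssFiniteType A B' := Algebra.EssFiniteType.comp A B _
  haveI : Algebra.EssFiniteType A' B' := Algebra.EssFiniteType.of_comp A _ _
  let _ := Ideal.Quotient.field (maximalIdeal A)
  haveI : Nontrivial B' :=
    Ideal.Quotient.nontrivial_iff.2 (ne_top_of_le_ne_top (maximalIdeal.isMaximal B).ne_top map_maximalIdeal_le)
  haveI : IsLocalRing B' := .of_surjective' (Ideal.Quotient.mk I) Ideal.Quotient.mk_surjective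
  haveI : IsLocalHom (algebraMap A' B') := ⟨fun a ha => by
    by_contra h
    rw [isUnit_iff_ne_zero, not_not] at h
    rw [h, map_zero] at ha
    exact not_isUnit_zero ha⟩
  have hIP : I ≤ P.asIdeal := Ideal.map_le_iff_le_comap.2 hP.ge
  let π := IsScalarTower.toAlgHom A B B'
  have hπ : π.toRingHom.SurjectiveOnStalks :=
    RingHom.surjectiveOnStalks_of_surjective Ideal.Quotient.mk_surjective
  let P' : PrimeSpectrum B' := ⟨P.asIdeal.map (Ideal.Quotient.mk I),
    Ideal.map_isPrime_of_surjective Ideal.Quotient.mk_surjective (by rw [Ideal.mk_ker]; exact hIP)⟩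
  have hP' : PrimeSpectrum.comap π.toRingHom P' = P := PrimeSpectrum.ext (by
    show (P.asIdeal.map (Ideal.Quotient.mk I)).comap (Ideal.Quotient.mk I) = _
    rw [Ideal.comap_map_of_surjective _ Ideal.Quotient.mk_surjective, ← RingHom.ker_eq_comap_bot,
      Ideal.mk_ker, sup_eq_left.2 hIP])
  have hm : PrimeSpectrum.comap π.toRingHom (closedPoint B') = closedPoint B := by
    refine PrimeSpectrum.ext ?_
    haveI : IsLocalHom π.toRingHom :=
      IsLocalHom.of_surjective (Ideal.Quotient.mk I) Ideal.Quotient.mk_surjective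
    exact maximalIdeal_comap π.toRingHom
  have h : ∀ Q : PrimeSpectrum B', FibDepth.trd A' Q = FibDepth.trd A (PrimeSpectrum.comap π.toRingHom Q) :=
    fun Q => by
      rw [FibDepth.trd_comap_of_surjectiveOnStalks π hπ]
      exact (FlatMorDim.trd_of_surjective (A' := A') Ideal.Quotient.mk_surjective Q).symm
  have key := DimFormula.fibre_prime_formula (A := A') P'
    ((Ideal.eq_bot_or_top _).resolve_right (Ideal.comap_ne_top _ P'.isPrime.ne_top) |>.trans
      ((Ideal.eq_bot_or_top _).resolve_right (maximalIdeal.isMaximal A').ne_top).symm)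
  rw [h, h, hP', hm] at key
  rw [← key]
  congr 1
  exact (ringKrullDim_eq_of_ringEquiv (DoubleQuot.quotQuotEquivQuotOfLE hIP)).symm

omit [IsDomain A] [IsDomain B] [FaithfulSMul A B] in
/-- The dimension of the closed fibre is the largest dimension along its primes. -/
theorem dim_fibre :
    (∃ P : PrimeSpectrum B, P.asIdeal.comap (algebraMap A B) = maximalIdeal A ∧
      P.asIdeal ∈ (Ideal.map (algebraMap A B) (maximalIdeal A)).minimalPrimes ∧
      ringKrullDim (B ⧸ Ideal.map (algebraMap A B) (maximalIdeal A)) = ringKrullDim (B ⧸ P.asIdeal)) ∧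
    ∀ P : PrimeSpectrum B, P.asIdeal.comap (algebraMap A B) = maximalIdeal A →
      ringKrullDim (B ⧸ P.asIdeal) ≤
        ringKrullDim (B ⧸ Ideal.map (algebraMap A B) (maximalIdeal A)) := by
  let I := Ideal.map (algebraMap A B) (maximalIdeal A)
  refine ⟨?_, fun P hP => ringKrullDim_le_of_surjective
    (Ideal.Quotient.factor (Ideal.map_le_iff_le_comap.2 hP.ge))
    (Ideal.Quotient.factor_surjective _)⟩
  let A' := A ⧸ maximalIdeal A
  let B' := B ⧸ I
  let _ : Algebra A' B' :=
    (Ideal.quotientMap I (algebraMap A B) (Ideal.le_comap_map)).toAlgebra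
  haveI : IsScalarTower A A' B' := .of_algebraMap_eq fun _ => rfl
  haveI : Algebra.EssFiniteType A B' := Algebra.EssFiniteType.comp A B _
  haveI : Algebra.EssFiniteType A' B' := Algebra.EssFiniteType.of_comp A _ _
  let _ := Ideal.Quotient.field (maximalIdeal A)
  haveI : IsNoetherianRing B' := Algebra.EssFiniteType.isNoetherianRing A' B'
  haveI : Nontrivial B' :=
    Ideal.Quotient.nontrivial_iff.2 (ne_top_of_le_ne_top (maximalIdeal.isMaximal B).ne_top map_maximalIdeal_le)
  haveI : IsLocalRing B' := .of_surjective' (Ideal.Quotient.mk I) Ideal.Quotient.mk_surjective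
  obtain ⟨P', hP', hd⟩ := DimFormula.exists_minimalPrime_dim B'
  haveI := hP'.isPrime
  let P : PrimeSpectrum B := ⟨P'.comap (Ideal.Quotient.mk I), inferInstance⟩
  have hIP : I ≤ P.asIdeal := (Ideal.mk_ker (I := I)).ge.trans (Ideal.ker_le_comap _)
  refine ⟨P, (((maximalIdeal.isMaximal A).eq_of_le (Ideal.comap_ne_top _ P.isPrime.ne_top))
    (Ideal.map_le_iff_le_comap.1 hIP)).symm, ?_, ?_⟩
  · rw [Ideal.minimalPrimes_eq_comap]
    exact ⟨P', hP', rfl⟩
  · rw [← hd, ← ringKrullDim_eq_of_ringEquiv (DoubleQuot.quotQuotEquivQuotOfLE hIP)]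
    refine ringKrullDim_eq_of_ringEquiv (Ideal.quotEquivOfEq ?_)
    exact (Ideal.map_comap_of_surjective _ Ideal.Quotient.mk_surjective P').symm

omit [IsDomain A] [IsDomain B] [FaithfulSMul A B] in
/-- A prime of the closed fibre which is not a component has smaller dimension. -/
theorem dim_add_one_le (P : PrimeSpectrum B)
    (hP : P.asIdeal.comap (algebraMap A B) = maximalIdeal A)
    (hmin : P.asIdeal ∉ (Ideal.map (algebraMap A B) (maximalIdeal A)).minimalPrimes) :
    ringKrullDim (B ⧸ P.asIdeal) + 1 ≤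
      ringKrullDim (B ⧸ Ideal.map (algebraMap A B) (maximalIdeal A)) := by
  let I := Ideal.map (algebraMap A B) (maximalIdeal A)
  have hIP : I ≤ P.asIdeal := Ideal.map_le_iff_le_comap.2 hP.ge
  obtain ⟨Q, hQ, hQP⟩ := Ideal.exists_minimalPrimes_le hIP
  haveI := hQ.isPrime
  obtain ⟨x, hxP, hxQ⟩ := SetLike.exists_of_lt (lt_of_le_of_ne hQP fun e => hmin (e ▸ hQ))
  let xb : B ⧸ Q := Ideal.Quotient.mk Q x
  have hx : xb ∈ nonZeroDivisors (B ⧸ Q) :=
    mem_nonZeroDivisors_of_ne_zero fun h => hxQ (Ideal.Quotient.eq_zero_iff_mem.1 h)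
  let f : (B ⧸ Q) ⧸ Ideal.span {xb} →+* B ⧸ P.asIdeal :=
    Ideal.Quotient.lift _ (Ideal.Quotient.factor hQP) fun y hy => by
      obtain ⟨c, rfl⟩ := Ideal.mem_span_singleton'.1 hy
      rw [map_mul, show Ideal.Quotient.factor hQP xb = 0 from Ideal.Quotient.eq_zero_iff_mem.2 hxP,
        mul_zero]
  have hf : Function.Surjective f := Ideal.Quotient.lift_surjective_of_surjective _ _
    (Ideal.Quotient.factor_surjective _)
  calc ringKrullDim (B ⧸ P.asIdeal) + 1 ≤ ringKrullDim ((B ⧸ Q) ⧸ Ideal.span {xb}) + 1 :=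
        add_le_add (ringKrullDim_le_of_surjective f hf) le_rfl
    _ ≤ ringKrullDim (B ⧸ Q) := ringKrullDim_quotient_succ_le_of_nonZeroDivisor hx
    _ ≤ _ := ringKrullDim_le_of_surjective (Ideal.Quotient.factor hQ.1.2)
        (Ideal.Quotient.factor_surjective _)

end Groth.Agent.FlatMorDim.DimEq
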