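import Groth.Agent.EGA43.FibDepth.FibreDim
import Groth.Agent.EGA43.FiniteCrit.NormalBase
import Groth.Agent.FlatMorSlice.CM
import Mathlib.RingTheory.IntegralClosure.GoingDown
import Mathlib.RingTheory.ZariskisMainTheorem

/-!
# A hypersurface cutting every component of a fibre is horizontal
-/

set_option autoImplicit false
set_option backward.isDefEq.respectTransparency false
set_option linter.style.haveILetI false

universe u

open MvPolynomial

namespace Groth.Agent.FlatMorDim.HorizontalLift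

open Groth.Agent EGA43

attribute [local instance] Algebra.TensorProduct.rightAlgebra in
/-- At a quasi-finite point there are no strictly bigger primes over the same prime. -/
theorem eq_of_ge_of_quasiFiniteAt {B S : Type u} [CommRing B] [CommRing S] [Algebra B S]
    [Algebra.FiniteType B S] (Q Q' : PrimeSpectrum S) [Algebra.QuasiFiniteAt B Q.asIdeal]
    (hle : Q.asIdeal ≤ Q'.asIdeal)
    (hu : Q'.asIdeal.comap (algebraMap B S) = Q.asIdeal.comap (algebraMap B S)) :
    Q' = Q := by
  let p := Q.asIdeal.comap (algebraMap B S)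
  haveI : Q.asIdeal.LiesOver p := ⟨rfl⟩
  let _ := Localization.AtPrime.algebraOfLiesOver p Q.asIdeal
  have : Module.Finite p.ResidueField Q.asIdeal.ResidueField := inferInstance
  have htrd : FibDepth.trd B Q = 0 := by
    rw [FibDepth.trd_eq_trdegHom Q (rfl : p = _),
      show Ideal.ResidueField.map p Q.asIdeal (algebraMap B S) rfl =
        algebraMap p.ResidueField Q.asIdeal.ResidueField from ?_,
      DimLib.trdegHom_algebraMap, trdeg_eq_zero, map_zero]
    refine Ideal.ResidueField.ringHom_ext (RingHom.ext fun a => ?_)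
    simp only [RingHom.comp_apply, Ideal.ResidueField.map_algebraMap]
    rw [← IsScalarTower.algebraMap_apply B p.ResidueField Q.asIdeal.ResidueField,
      IsScalarTower.algebraMap_apply B S Q.asIdeal.ResidueField]
  obtain ⟨Q₀, hQ₀⟩ := FibDepth.exists_prime_over (A := B) (p := p) (p.Fiber S) Q rfl
  obtain ⟨Q₀', hQ₀'⟩ := FibDepth.exists_prime_over (A := B) (p := p) (p.Fiber S) Q' hu.symm
  have hle₀ : Q₀.asIdeal ≤ Q₀'.asIdeal :=
    FibDepth.le_of_comap_le (R := S) p (by rw [hQ₀, hQ₀']; exact hle)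
  have h0 := FibDepth.ringKrullDim_quotient_eq_trd (R := S) p Q₀
  rw [hQ₀, htrd, Nat.cast_zero] at h0
  have hmax : Q₀.asIdeal.IsMaximal := by
    haveI : Ring.KrullDimLE 0 (p.Fiber S ⧸ Q₀.asIdeal) :=
      Ring.krullDimLE_iff.2 (by rw [h0]; simp)
    exact Ideal.Quotient.maximal_of_isField _ (Ring.KrullDimLE.isField_of_isDomain)
  have : Q₀ = Q₀' := PrimeSpectrum.ext (hmax.eq_of_le Q₀'.isPrime.ne_top hle₀)
  rw [← hQ₀, ← hQ₀', this]

/-- A prime of a subalgebra lifts to a birational extension away from the denominators. -/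
theorem exists_prime_of_subalgebra {B R : Type u} [CommRing B] [CommRing R] [Algebra B R]
    (S' : Subalgebra B R) {r₁ : R} (hr₁ : r₁ ∈ S') (hpow : ∀ y : R, ∃ k, r₁ ^ k * y ∈ S')
    (q : Ideal R) [hq : q.IsPrime] (hr₁q : r₁ ∉ q) (PS : Ideal S') [PS.IsPrime]
    (hP₀ : ∀ y : S', y ∈ PS → (y : R) ∈ q) :
    ∃ P : PrimeSpectrum R, (∀ y : S', (y : R) ∈ P.asIdeal ↔ y ∈ PS) ∧ P.asIdeal ≤ q := by
  choose k hk using hpow
  have hr₁p : (⟨r₁, hr₁⟩ : S') ∉ PS := fun e => hr₁q (hP₀ _ e)
  let rS : S' := ⟨r₁, hr₁⟩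
  have hrS : rS ∉ PS := hr₁p
  have hP := hP₀
  let mk : ∀ (y : R) (l : ℕ), r₁ ^ l * y ∈ S' → S' := fun y l hl => ⟨r₁ ^ l * y, hl⟩
  have hwd : ∀ (y : R) l l' (hl : r₁ ^ l * y ∈ S') (hl' : r₁ ^ l' * y ∈ S'),
      mk y l hl ∈ PS → mk y l' hl' ∈ PS := by
    intro y l l' hl hl' hmem
    have : rS ^ l * mk y l' hl' ∈ PS := by
      rw [show rS ^ l * mk y l' hl' = rS ^ l' * mk y l hl from Subtype.ext (by
        simp only [mk, rS, MulMemClass.coe_mul, SubmonoidClass.coe_pow]; ring)]
      exact Ideal.mul_mem_left _ _ hmem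
    exact ((‹PS.IsPrime›.mem_or_mem this).resolve_left fun e => hrS (‹PS.IsPrime›.mem_of_pow_mem _ e))
  let P : Ideal R :=
    { carrier := {y | mk y (k y) (hk y) ∈ PS}
      zero_mem' := by
        show mk 0 _ _ ∈ PS
        rw [show mk 0 (k 0) (hk 0) = 0 from Subtype.ext (mul_zero _)]
        exact zero_mem _
      add_mem' := fun {y z} hy hz => by
        have hy' : r₁ ^ (k y + k z) * y ∈ S' := by
          rw [pow_add, mul_comm (r₁ ^ k y), mul_assoc]; exact mul_mem (pow_mem hr₁ _) (hk y)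
        have hz' : r₁ ^ (k y + k z) * z ∈ S' := by
          rw [pow_add, mul_assoc]; exact mul_mem (pow_mem hr₁ _) (hk z)
        have hyz : r₁ ^ (k y + k z) * (y + z) ∈ S' := by
          rw [mul_add]; exact add_mem hy' hz'
        refine hwd (y + z) _ _ hyz (hk _) ?_
        rw [show mk (y + z) _ hyz = mk y _ hy' + mk z _ hz' from Subtype.ext (mul_add _ _ _)]
        exact add_mem (hwd y _ _ (hk y) hy' hy) (hwd z _ _ (hk z) hz' hz)
      smul_mem' := fun c y hy => by
        have h' : r₁ ^ (k c + k y) * (c * y) ∈ S' := by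
          rw [pow_add, mul_mul_mul_comm]; exact mul_mem (hk c) (hk y)
        refine hwd _ _ _ h' (hk _) ?_
        rw [show mk (c * y) _ h' = mk c _ (hk c) * mk y _ (hk y) from Subtype.ext (by
          simp only [mk, MulMemClass.coe_mul, pow_add]; ring)]
        exact Ideal.mul_mem_left _ _ hy }
  have hPS' : ∀ y : S', (y : R) ∈ P ↔ y ∈ PS := fun y => by
    have h0 : r₁ ^ 0 * (y : R) ∈ S' := by rw [pow_zero, one_mul]; exact y.2
    have e : mk (y : R) 0 h0 = y := Subtype.ext (by simp [mk])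
    exact ⟨fun hy => e ▸ hwd _ _ _ (hk _) h0 hy, fun hy => hwd _ _ _ h0 (hk _) (e.symm ▸ hy)⟩
  have hPp : P.IsPrime := ⟨(Ideal.ne_top_iff_one _).2 fun h1 =>
      ‹PS.IsPrime›.ne_top ((Ideal.eq_top_iff_one _).2 ((hPS' 1).1 h1)), fun {y z} hyz => by
      have h' : r₁ ^ (k y + k z) * (y * z) ∈ S' := by
        rw [pow_add, mul_mul_mul_comm]; exact mul_mem (hk y) (hk z)
      have hm' := hwd _ _ _ (hk _) h' hyz
      rw [show mk (y * z) _ h' = mk y _ (hk y) * mk z _ (hk z) from Subtype.ext (by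
        simp only [mk, MulMemClass.coe_mul, pow_add]; ring)] at hm'
      exact ‹PS.IsPrime›.mem_or_mem hm'⟩
  refine ⟨⟨P, hPp⟩, hPS', fun y hy => ?_⟩
  have h1 : r₁ ^ k y * y ∈ q := hP (⟨_, hk y⟩ : S') hy
  exact (hq.mem_or_mem h1).resolve_left fun e => hr₁q (hq.mem_of_pow_mem _ e)

/-- Functoriality of the integral closure. -/
theorem exists_map_integralClosure {B₀ B₁ R L : Type u} [CommRing B₀] [CommRing B₁] [CommRing R]
    [CommRing L] [Algebra B₀ R] [Algebra B₁ L] (μ : B₀ →+* B₁) (g : R →+* L)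
    (h : (algebraMap B₁ L).comp μ = g.comp (algebraMap B₀ R)) (hμ : μ.IsIntegral) :
    ∃ jS : integralClosure B₀ R →+* integralClosure B₁ L, (∀ y, (jS y : L) = g (y : R)) ∧
      (∀ b, jS (algebraMap B₀ (integralClosure B₀ R) b) = algebraMap B₁ (integralClosure B₁ L) (μ b)) ∧
      jS.IsIntegral := by
  let jS : integralClosure B₀ R →+* integralClosure B₁ L :=
    (g.comp (integralClosure B₀ R).val.toRingHom).codRestrict (integralClosure B₁ L) fun y =>
      (mem_integralClosure_iff _ _).2 (((mem_integralClosure_iff _ _).1 y.2).map_of_comp_eq μ g h)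
  have hj : ∀ b, jS (algebraMap B₀ (integralClosure B₀ R) b) =
      algebraMap B₁ (integralClosure B₁ L) (μ b) := fun b =>
    Subtype.ext (RingHom.congr_fun h b).symm
  refine ⟨jS, fun y => rfl, hj, RingHom.IsIntegral.tower_top (algebraMap B₀ _) jS ?_⟩
  rw [show jS.comp (algebraMap B₀ _) = (algebraMap B₁ (integralClosure B₁ L)).comp μ from RingHom.ext hj]
  exact RingHom.IsIntegral.trans _ _ hμ fun c => Algebra.IsIntegral.isIntegral c

variable {A R : Type u} [CommRing A] [IsDomain A] [CommRing R] [IsDomain R] [Algebra A R]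
  [FaithfulSMul A R] [Algebra.FiniteType A R]

omit [IsDomain A] [IsDomain R] [FaithfulSMul A R] in
/-- A quasi-finite chart whose first coordinate is `r`. -/
theorem exists_qfChart (q : PrimeSpectrum R) {r : R} (hr : r ∈ q.asIdeal) {m : ℕ}
    (h : ∀ q' : PrimeSpectrum R,
      q'.asIdeal.comap (algebraMap A R) = q.asIdeal.comap (algebraMap A R) →
        r ∈ q'.asIdeal → FibDepth.trd A q' ≤ m) :
    ∃ (s : ℕ) (x : ULift.{u} (Fin (s + 1)) → R), s ≤ m ∧ x (ULift.up 0) = r ∧
      letI := (aeval x : MvPolynomial (ULift.{u} (Fin (s + 1))) A →ₐ[A] R).toRingHom.toAlgebra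
      Algebra.QuasiFiniteAt (MvPolynomial (ULift.{u} (Fin (s + 1))) A) q.asIdeal := by
  let I : Ideal R := Ideal.span {r}
  have hIq : I ≤ q.asIdeal := (Ideal.span_singleton_le_iff_mem _).2 hr
  let π : R →ₐ[A] R ⧸ I := Ideal.Quotient.mkₐ A I
  have hπ : π.toRingHom.SurjectiveOnStalks :=
    RingHom.surjectiveOnStalks_of_surjective Ideal.Quotient.mk_surjective
  let q₀ : PrimeSpectrum (R ⧸ I) := ⟨q.asIdeal.map (Ideal.Quotient.mk I),
    Ideal.map_isPrime_of_surjective Ideal.Quotient.mk_surjective (by rw [Ideal.mk_ker]; exact hIq)⟩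
  have hq₀ : q₀.asIdeal.comap (Ideal.Quotient.mk I) = q.asIdeal := by
    show (q.asIdeal.map (Ideal.Quotient.mk I)).comap (Ideal.Quotient.mk I) = _
    rw [Ideal.comap_map_of_surjective _ Ideal.Quotient.mk_surjective, ← RingHom.ker_eq_comap_bot,
      Ideal.mk_ker, sup_eq_left.2 hIq]
  obtain ⟨s, ψ₀, hs, hqf⟩ := FibDepth.exists_quasiFiniteAt (A := A) q₀ (n := m) fun q' hq' => by
    rw [← FibDepth.trd_comap_of_surjectiveOnStalks π hπ q']
    refine h _ ?_ ?_
    · show (q'.asIdeal.comap (Ideal.Quotient.mk I)).comap (algebraMap A R) = _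
      rw [← hq₀, Ideal.comap_comap, Ideal.comap_comap]
      exact hq'
    · show Ideal.Quotient.mk I r ∈ q'.asIdeal
      rw [Ideal.Quotient.eq_zero_iff_mem.2 (Ideal.mem_span_singleton_self r)]
      exact zero_mem _
  choose t ht using fun j : Fin s => Ideal.Quotient.mk_surjective (ψ₀ (X j))
  let σ := ULift.{u} (Fin (s + 1))
  let x : σ → R := fun i => Fin.cases r t i.down
  let B₀ := MvPolynomial σ A
  let ψ : B₀ →ₐ[A] R := aeval x
  let j : MvPolynomial (Fin s) A →ₐ[A] B₀ := rename fun i => ULift.up i.succ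
  let i₀ : σ := ULift.up 0
  let _ := ψ.toRingHom.toAlgebra
  haveI : IsScalarTower A B₀ R := .of_algebraMap_eq fun a => (ψ.commutes a).symm
  haveI : Algebra.FiniteType B₀ R := Algebra.FiniteType.of_restrictScalars_finiteType A _ R
  have hψj : π.comp (ψ.comp j) = ψ₀ := algHom_ext fun i => by
    simp only [π, ψ, j, x, AlgHom.comp_apply, rename_X, aeval_X, Fin.cases_succ]
    rw [Ideal.Quotient.mkₐ_eq_mk, rename_X, aeval_X, Fin.cases_succ]
    exact ht i
  -- `ψ` is quasi-finite at `q`
  refine ⟨s, x, hs, rfl, ?_⟩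
  show Algebra.QuasiFiniteAt B₀ q.asIdeal
  haveI := q₀.isPrime
  let _ := ψ₀.toRingHom.toAlgebra
  haveI : IsScalarTower A (MvPolynomial (Fin s) A) (R ⧸ I) :=
    .of_algebraMap_eq fun a => (ψ₀.commutes a).symm
  haveI : Algebra.FiniteType (MvPolynomial (Fin s) A) (R ⧸ I) :=
    Algebra.FiniteType.of_restrictScalars_finiteType A _ _
  haveI : Algebra.QuasiFiniteAt (MvPolynomial (Fin s) A) q₀.asIdeal := hqf
  have key : ∀ r' : Ideal R, r'.IsPrime → (r' ≤ q.asIdeal ∨ q.asIdeal ≤ r') →
      r'.comap (algebraMap B₀ R) = q.asIdeal.comap (algebraMap B₀ R) → r' = q.asIdeal := by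
    intro r' hr' hcomp hc
    have hrr : r ∈ r' := by
      have : (X i₀ : B₀) ∈ r'.comap (algebraMap B₀ R) := by
        rw [hc]
        show aeval x (X i₀) ∈ q.asIdeal
        rw [aeval_X]
        exact hr
      have h' : aeval x (X i₀) ∈ r' := this
      rwa [aeval_X] at h'
    have hIr : I ≤ r' := (Ideal.span_singleton_le_iff_mem _).2 hrr
    let r₀ : PrimeSpectrum (R ⧸ I) := ⟨r'.map (Ideal.Quotient.mk I),
      Ideal.map_isPrime_of_surjective Ideal.Quotient.mk_surjective (by rw [Ideal.mk_ker]; exact hIr)⟩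
    have hr₀ : r₀.asIdeal.comap (Ideal.Quotient.mk I) = r' := by
      show (r'.map (Ideal.Quotient.mk I)).comap (Ideal.Quotient.mk I) = _
      rw [Ideal.comap_map_of_surjective _ Ideal.Quotient.mk_surjective, ← RingHom.ker_eq_comap_bot,
        Ideal.mk_ker, sup_eq_left.2 hIr]
    have hcj : ∀ J : Ideal (R ⧸ I), J.comap (algebraMap (MvPolynomial (Fin s) A) (R ⧸ I)) =
        ((J.comap (Ideal.Quotient.mk I)).comap (algebraMap B₀ R)).comap j.toRingHom := fun J => by
      rw [Ideal.comap_comap, Ideal.comap_comap]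
      exact congrArg (fun φ => Ideal.comap φ J)
        (congrArg AlgHom.toRingHom hψj).symm
    have hu : r₀.asIdeal.comap (algebraMap (MvPolynomial (Fin s) A) (R ⧸ I)) =
        q₀.asIdeal.comap (algebraMap (MvPolynomial (Fin s) A) (R ⧸ I)) := by
      rw [hcj, hcj, hr₀, hq₀, hc]
    have : r₀ = q₀ := by
      rcases hcomp with h' | h'
      · haveI := r₀.isPrime
        exact PrimeSpectrum.ext (Algebra.QuasiFiniteAt.eq_of_le_of_under_eq
          (R := MvPolynomial (Fin s) A) (Ideal.map_mono h') hu)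
      · exact eq_of_ge_of_quasiFiniteAt q₀ r₀ (Ideal.map_mono h') hu
    rw [← hr₀, this, hq₀]
  exact FlatMorSlice.quasiFiniteAt_of_isolated q.asIdeal (fun r' hr' h' hc => key r' hr' (.inr h') hc)
    (fun r' hr' h' hc => key r' hr' (.inl h') hc)

omit [Algebra.FiniteType A R] in
/-- Few elements over which everything is algebraic are algebraically independent. -/
theorem algebraicIndependent_of_isIntegral {σ : Type u} [Finite σ] (x : σ → R)
    (hσ : Cardinal.mk σ ≤ Algebra.trdeg A R) {r₁ : R} (hr₁0 : r₁ ≠ 0)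
    (hr₁ : letI := (aeval x : MvPolynomial σ A →ₐ[A] R).toRingHom.toAlgebra
      IsIntegral (MvPolynomial σ A) r₁)
    (hpow : letI := (aeval x : MvPolynomial σ A →ₐ[A] R).toRingHom.toAlgebra
      ∀ y : R, ∃ k, IsIntegral (MvPolynomial σ A) (r₁ ^ k * y)) :
    AlgebraicIndependent A x := by
  let B₀ := MvPolynomial σ A
  let ψ : B₀ →ₐ[A] R := aeval x
  let _ := ψ.toRingHom.toAlgebra
  let S₀ := Algebra.adjoin A (Set.range x)
  let ψ' : B₀ →ₐ[A] S₀ := ψ.codRestrict S₀ fun b => by
    rw [show S₀ = ψ.range from Algebra.adjoin_range_eq_range_aeval A x]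
    exact ⟨b, rfl⟩
  have hint : ∀ y : R, IsIntegral B₀ y → IsIntegral S₀ y := fun y hy =>
    hy.map_of_comp_eq ψ'.toRingHom (RingHom.id R) (RingHom.ext fun b => rfl)
  haveI : Algebra.IsAlgebraic S₀ R := ⟨fun y => by
    obtain ⟨k, hk⟩ := hpow y
    refine IsAlgebraic.of_mul (y := r₁ ^ k) (mem_nonZeroDivisors_of_ne_zero (pow_ne_zero _ hr₁0))
      ((hint _ hr₁).pow _).isAlgebraic ?_
    exact (hint _ hk).isAlgebraic⟩
  exact (Algebra.IsAlgebraic.isTranscendenceBasis_of_le_trdeg_of_finite A x hσ).1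

set_option maxHeartbeats 400000 in
omit [Algebra.FiniteType A R] [IsDomain A] [FaithfulSMul A R] in
/-- Going down to the horizontal prime `(X₀)` over a normal extension of the base. -/
theorem exists_prime_integralClosure_aux {A' L : Type u} [CommRing A'] [IsDomain A'] [IsIntegrallyClosed A']
    [Algebra A A'] [Algebra.IsIntegral A A'] (hA' : Function.Injective (algebraMap A A'))
    [CommRing L] [IsDomain L] [Algebra A L] [Algebra A' L] [IsScalarTower A A' L] [Algebra R L]
    [IsScalarTower A R L] (hRL : Function.Injective (algebraMap R L))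
    {s : ℕ} (x : ULift.{u} (Fin (s + 1)) → R)
    (hind : AlgebraicIndependent A x) (q : PrimeSpectrum R) (hr : x (ULift.up 0) ∈ q.asIdeal) :
    letI := (aeval x : MvPolynomial (ULift.{u} (Fin (s + 1))) A →ₐ[A] R).toRingHom.toAlgebra
    ∃ PS : Ideal (integralClosure (MvPolynomial (ULift.{u} (Fin (s + 1))) A) R), PS.IsPrime ∧
      (∀ y : integralClosure (MvPolynomial (ULift.{u} (Fin (s + 1))) A) R,
        y ∈ PS → (y : R) ∈ q.asIdeal) ∧
      algebraMap (MvPolynomial (ULift.{u} (Fin (s + 1))) A)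
        (integralClosure (MvPolynomial (ULift.{u} (Fin (s + 1))) A) R) (X (ULift.up 0)) ∈ PS ∧
      ∀ a : A, algebraMap (MvPolynomial (ULift.{u} (Fin (s + 1))) A)
        (integralClosure (MvPolynomial (ULift.{u} (Fin (s + 1))) A) R) (C a) ∈ PS → a = 0 := by
  classical
  let σ := ULift.{u} (Fin (s + 1))
  let B₀ := MvPolynomial σ A
  let ψ : B₀ →ₐ[A] R := aeval x
  let i₀ : σ := ULift.up 0
  let _ := ψ.toRingHom.toAlgebra
  haveI : IsScalarTower A B₀ R := .of_algebraMap_eq fun a => (ψ.commutes a).symm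
  let xL : σ → L := fun i => algebraMap R L (x i)
  have hindL : AlgebraicIndependent A' xL :=
    (hind.map' (f := IsScalarTower.toAlgHom A R L) hRL).extendScalars_of_isIntegral A'
  let B₁ := MvPolynomial σ A'
  haveI : IsIntegrallyClosed B₁ := FiniteCrit.isIntegrallyClosed_mvPolynomial A' (s + 1)
  let _ : Algebra B₁ L := (aeval xL : B₁ →ₐ[A'] L).toRingHom.toAlgebra
  let C' := integralClosure B₁ L
  haveI : FaithfulSMul B₁ C' := (faithfulSMul_iff_algebraMap_injective _ _).2 fun a b e =>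
    hindL (congrArg Subtype.val e)
  let μ : B₀ →+* B₁ := MvPolynomial.map (algebraMap A A')
  have hμ : (algebraMap B₁ L).comp μ = (algebraMap R L).comp (algebraMap B₀ R) := by
    refine MvPolynomial.ringHom_ext (fun a => ?_) fun i => ?_
    · show aeval xL (μ (C a)) = algebraMap R L (ψ (C a))
      rw [show μ (C a) = C (algebraMap A A' a) from MvPolynomial.map_C _ a, aeval_C,
        show ψ (C a) = algebraMap A R a from aeval_C x a, ← IsScalarTower.algebraMap_apply,
        ← IsScalarTower.algebraMap_apply]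
    · show aeval xL (μ (X i)) = algebraMap R L (ψ (X i))
      rw [show μ (X i) = X i from MvPolynomial.map_X _ i, aeval_X,
        show ψ (X i) = x i from aeval_X x i]
  let S' := integralClosure B₀ R
  have hμi : μ.IsIntegral := fun b => by
    let _ : Algebra B₀ B₁ := μ.toAlgebra
    induction b using MvPolynomial.induction_on with
    | C a =>
      exact (Algebra.IsIntegral.isIntegral (R := A) a).map_of_comp_eq (C : A →+* B₀) (C : A' →+* B₁)
        (RingHom.ext fun c => MvPolynomial.map_C (algebraMap A A') c)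
    | add p p' hp hp' => exact RingHom.IsIntegralElem.add μ hp hp'
    | mul_X p i hp =>
      refine RingHom.IsIntegralElem.mul μ hp ?_
      rw [show (X i : B₁) = μ (X i) from (MvPolynomial.map_X _ i).symm]
      exact μ.isIntegralElem_map
  obtain ⟨jS, hjS', hjS, hint⟩ := exists_map_integralClosure μ (algebraMap R L) hμ hμi
  let _ : Algebra S' C' := jS.toAlgebra
  haveI : Algebra.IsIntegral S' C' := ⟨hint⟩
  let qS : Ideal S' := q.asIdeal.comap S'.val.toRingHom
  obtain ⟨Q'', -, hQ''p, hQ''⟩ := Ideal.exists_ideal_over_prime_of_isIntegral qS (⊥ : Ideal C') (by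
    rw [Ideal.comap_bot_of_injective (algebraMap S' C') fun a b (e : jS a = jS b) => Subtype.ext
      (hRL (by rw [← hjS', ← hjS', e]))]
    exact bot_le)
  -- the prime `(X₀)` of `B₁`
  let sub : B₁ →ₐ[A'] B₁ := aeval fun i => if i = i₀ then 0 else X i
  have hsubX : ∀ i, sub (X i) = if i = i₀ then 0 else X i := fun i => aeval_X _ i
  have hsubC : ∀ a : A', sub (C a) = C a := fun a => aeval_C _ a
  let p₁ : Ideal B₁ := RingHom.ker sub
  haveI : p₁.IsPrime := RingHom.ker_isPrime _
  have hX : algebraMap S' C' (algebraMap B₀ S' (X i₀)) = algebraMap B₁ C' (X i₀) := by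
    exact (hjS (X i₀)).trans (congrArg _ (MvPolynomial.map_X _ i₀))
  have hp₁ : p₁ ≤ Q''.comap (algebraMap B₁ C') := by
    have hX0 : (X i₀ : B₁) ∈ Q''.comap (algebraMap B₁ C') := by
      rw [Ideal.mem_comap, ← hX, ← Ideal.mem_comap, hQ'']
      show aeval x (X i₀) ∈ q.asIdeal
      rw [aeval_X]
      exact hr
    intro f hf
    have e : (Ideal.Quotient.mkₐ A' (Ideal.span {(X i₀ : B₁)})).comp sub =
        Ideal.Quotient.mkₐ A' (Ideal.span {(X i₀ : B₁)}) := algHom_ext fun i => by
      rw [AlgHom.comp_apply, hsubX]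
      split_ifs with hi
      · subst hi
        rw [map_zero]
        exact (Ideal.Quotient.eq_zero_iff_mem.2 (Ideal.mem_span_singleton_self _)).symm
      · rfl
    have hfm := AlgHom.congr_fun e f
    rw [AlgHom.comp_apply, show sub f = 0 from hf, map_zero] at hfm
    exact (Ideal.span_singleton_le_iff_mem _).2 hX0 (Ideal.Quotient.eq_zero_iff_mem.1 hfm.symm)
  haveI : Q''.LiesOver (Q''.comap (algebraMap B₁ C')) := ⟨rfl⟩
  obtain ⟨P'', hP''le, hP''p, hP''⟩ := Ideal.exists_ideal_le_liesOver_of_le Q'' hp₁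
  have hmem : ∀ b : B₁, algebraMap B₁ C' b ∈ P'' ↔ sub b = 0 := fun b => by
    rw [← Ideal.mem_comap, ← Ideal.under_def, ← hP''.over]
    rfl
  refine ⟨P''.comap (algebraMap S' C'), Ideal.comap_isPrime _ _, fun y hy => ?_, ?_, fun a ha => ?_⟩
  · have : y ∈ qS := hQ'' ▸ (show algebraMap S' C' y ∈ Q'' from hP''le hy)
    exact this
  · rw [Ideal.mem_comap, hX, hmem, hsubX, if_pos rfl]
  · rw [Ideal.mem_comap, show algebraMap S' C' (algebraMap B₀ S' (C a)) = algebraMap B₁ C' (μ (C a)) from hjS _,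
      hmem, show μ (C a) = C (algebraMap A A' a) from MvPolynomial.map_C _ a] at ha
    rw [hsubC] at ha
    have h3 : algebraMap A A' a = 0 := MvPolynomial.C_eq_zero.1 ha
    exact hA' (h3.trans (map_zero _).symm)

omit [Algebra.FiniteType A R] in
/-- Going down to the horizontal prime `(X₀)` after normalising the base. -/
theorem exists_prime_integralClosure {s : ℕ} (x : ULift.{u} (Fin (s + 1)) → R)
    (hind : AlgebraicIndependent A x) (q : PrimeSpectrum R) (hr : x (ULift.up 0) ∈ q.asIdeal) :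
    letI := (aeval x : MvPolynomial (ULift.{u} (Fin (s + 1))) A →ₐ[A] R).toRingHom.toAlgebra
    ∃ PS : Ideal (integralClosure (MvPolynomial (ULift.{u} (Fin (s + 1))) A) R), PS.IsPrime ∧
      (∀ y : integralClosure (MvPolynomial (ULift.{u} (Fin (s + 1))) A) R,
        y ∈ PS → (y : R) ∈ q.asIdeal) ∧
      algebraMap (MvPolynomial (ULift.{u} (Fin (s + 1))) A)
        (integralClosure (MvPolynomial (ULift.{u} (Fin (s + 1))) A) R) (X (ULift.up 0)) ∈ PS ∧
      ∀ a : A, algebraMap (MvPolynomial (ULift.{u} (Fin (s + 1))) A)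
        (integralClosure (MvPolynomial (ULift.{u} (Fin (s + 1))) A) R) (C a) ∈ PS → a = 0 := by
  let K := FractionRing A
  let L := FractionRing R
  haveI : FaithfulSMul A L := (faithfulSMul_iff_algebraMap_injective _ _).2 (by
    rw [IsScalarTower.algebraMap_eq A R L]
    exact (IsFractionRing.injective R L).comp (FaithfulSMul.algebraMap_injective A R))
  let _ : Algebra K L := FractionRing.liftAlgebra A L
  haveI : IsScalarTower A K L := FractionRing.isScalarTower_liftAlgebra A L
  let A' := integralClosure A K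
  haveI : IsIntegrallyClosed A' := integralClosure.isIntegrallyClosedOfFiniteExtension K
  haveI : IsScalarTower A A' L := .of_algebraMap_eq fun a =>
    IsScalarTower.algebraMap_apply A K L a
  exact exists_prime_integralClosure_aux (A' := A') (L := L) (fun a b e =>
    IsFractionRing.injective A K (congrArg Subtype.val e)) (IsFractionRing.injective R L) x hind q hr

/-- The core: with a global bound on the fibre of `V(r)`. -/
theorem exists_horizontal_of_forall_le (q : PrimeSpectrum R) {r : R} (hr : r ∈ q.asIdeal) {m : ℕ}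
    (hm : (m : Cardinal.{u}) + 1 ≤ Algebra.trdeg A R)
    (h : ∀ q' : PrimeSpectrum R,
      q'.asIdeal.comap (algebraMap A R) = q.asIdeal.comap (algebraMap A R) →
        r ∈ q'.asIdeal → FibDepth.trd A q' ≤ m) :
    ∃ P : PrimeSpectrum R, P.asIdeal ≤ q.asIdeal ∧ r ∈ P.asIdeal ∧
      P.asIdeal.comap (algebraMap A R) = ⊥ := by
  obtain ⟨s, x, hs, hx, hqf⟩ := exists_qfChart (A := A) q hr h
  let B₀ := MvPolynomial (ULift.{u} (Fin (s + 1))) A
  let ψ : B₀ →ₐ[A] R := aeval x
  let _ := ψ.toRingHom.toAlgebra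
  haveI : IsScalarTower A B₀ R := .of_algebraMap_eq fun a => (ψ.commutes a).symm
  haveI : Algebra.FiniteType B₀ R := Algebra.FiniteType.of_restrictScalars_finiteType A _ R
  haveI := hqf
  obtain ⟨r₁, hr₁q, hr₁, hpow⟩ := Algebra.zariskisMainProperty_iff.1
    (Algebra.ZariskisMainProperty.of_finiteType_of_weaklyQuasiFiniteAt (R := B₀) q.asIdeal)
  have hind : AlgebraicIndependent A x := algebraicIndependent_of_isIntegral x (by
    refine le_trans ?_ hm
    rw [Cardinal.mk_uLift, Cardinal.mk_fin, Cardinal.lift_natCast, Nat.cast_add, Nat.cast_one]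
    exact_mod_cast Nat.add_le_add_right hs 1) (fun e => hr₁q (by rw [e]; exact zero_mem _)) hr₁ hpow
  obtain ⟨PS, hPS, hPSq, hX, hC⟩ := exists_prime_integralClosure x hind q (hx.symm ▸ hr)
  obtain ⟨P, hP, hPle⟩ := exists_prime_of_subalgebra (integralClosure B₀ R)
    ((mem_integralClosure_iff _ _).2 hr₁) (fun y => (hpow y).imp fun _ h => (mem_integralClosure_iff _ _).2 h)
    q.asIdeal hr₁q PS hPSq
  refine ⟨P, hPle, ?_, eq_bot_iff.2 fun a ha => hC a ?_⟩
  · have := (hP _).2 hX
    change aeval x (X _) ∈ P.asIdeal at this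
    rwa [aeval_X, hx] at this
  · refine (hP _).1 ?_
    show aeval x (C a) ∈ P.asIdeal
    rw [aeval_C]
    exact ha

/-- A function cutting all components of the fibre through `q` cuts out a horizontal prime. -/
theorem exists_horizontal (q : PrimeSpectrum R) {r : R} (hr : r ∈ q.asIdeal) {m : ℕ}
    (hm : (m : Cardinal.{u}) + 1 ≤ Algebra.trdeg A R)
    (h : ∀ q' : PrimeSpectrum R, q'.asIdeal ≤ q.asIdeal →
      q'.asIdeal.comap (algebraMap A R) = q.asIdeal.comap (algebraMap A R) →
        r ∈ q'.asIdeal → FibDepth.trd A q' ≤ m) :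
    ∃ P : PrimeSpectrum R, P.asIdeal ≤ q.asIdeal ∧ r ∈ P.asIdeal ∧
      P.asIdeal.comap (algebraMap A R) = ⊥ := by
  let I : Ideal R := Ideal.span {r}
  have hIq : I ≤ q.asIdeal := (Ideal.span_singleton_le_iff_mem _).2 hr
  let π : R →ₐ[A] R ⧸ I := Ideal.Quotient.mkₐ A I
  have hπ : π.toRingHom.SurjectiveOnStalks :=
    RingHom.surjectiveOnStalks_of_surjective Ideal.Quotient.mk_surjective
  let q₀ : PrimeSpectrum (R ⧸ I) := ⟨q.asIdeal.map (Ideal.Quotient.mk I),
    Ideal.map_isPrime_of_surjective Ideal.Quotient.mk_surjective (by rw [Ideal.mk_ker]; exact hIq)⟩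
  have hq₀ : q₀.asIdeal.comap (Ideal.Quotient.mk I) = q.asIdeal := by
    show (q.asIdeal.map (Ideal.Quotient.mk I)).comap (Ideal.Quotient.mk I) = _
    rw [Ideal.comap_map_of_surjective _ Ideal.Quotient.mk_surjective, ← RingHom.ker_eq_comap_bot,
      Ideal.mk_ker, sup_eq_left.2 hIq]
  have hmem : q₀ ∈ {q : PrimeSpectrum (R ⧸ I) | ∀ q', q'.asIdeal ≤ q.asIdeal →
      q'.asIdeal.comap (algebraMap A (R ⧸ I)) = q.asIdeal.comap (algebraMap A (R ⧸ I)) →
        FibDepth.trd A q' ≤ m} := fun q' hle hc => by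
    rw [← FibDepth.trd_comap_of_surjectiveOnStalks π hπ q']
    refine h _ (hq₀ ▸ Ideal.comap_mono hle) ?_ ?_
    · show (q'.asIdeal.comap (Ideal.Quotient.mk I)).comap (algebraMap A R) = _
      rw [← hq₀, Ideal.comap_comap, Ideal.comap_comap]
      exact hc
    · show Ideal.Quotient.mk I r ∈ q'.asIdeal
      rw [Ideal.Quotient.eq_zero_iff_mem.2 (Ideal.mem_span_singleton_self r)]
      exact zero_mem _
  obtain ⟨_, ⟨c₀, rfl⟩, hc₀q, hc₀⟩ :=
    PrimeSpectrum.isTopologicalBasis_basic_opens.exists_subset_of_mem_open hmem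
      (FibDepth.isOpen_trd_le m)
  obtain ⟨c, rfl⟩ := Ideal.Quotient.mk_surjective c₀
  have hcq : c ∉ q.asIdeal := fun e => hc₀q (Ideal.mem_map_of_mem _ e)
  let R' := Localization.Away c
  have hc0 : c ≠ 0 := fun e => hcq (e ▸ zero_mem _)
  haveI : IsDomain R' := IsLocalization.isDomain_localization
    (powers_le_nonZeroDivisors_of_noZeroDivisors hc0)
  have hinj : Function.Injective (algebraMap R R') :=
    IsLocalization.injective _ (powers_le_nonZeroDivisors_of_noZeroDivisors hc0)
  haveI : FaithfulSMul A R' := (faithfulSMul_iff_algebraMap_injective _ _).2 (by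
    rw [IsScalarTower.algebraMap_eq A R R']
    exact hinj.comp (FaithfulSMul.algebraMap_injective A R))
  haveI : Algebra.FiniteType R R' := IsLocalization.finiteType_of_monoid_fg (Submonoid.powers c) R'
  haveI : Algebra.FiniteType A R' := Algebra.FiniteType.trans (S := R) inferInstance inferInstance
  let φ := IsScalarTower.toAlgHom A R R'
  have hφ : φ.toRingHom.SurjectiveOnStalks :=
    RingHom.surjectiveOnStalks_of_isLocalization (M := Submonoid.powers c) _
  obtain ⟨q₁, hq₁⟩ := (PrimeSpectrum.localization_away_comap_range R' c).ge hcq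
  have hm' : (m : Cardinal.{u}) + 1 ≤ Algebra.trdeg A R' :=
    hm.trans (trdeg_le_of_injective φ hinj)
  have hq₁' : q₁.asIdeal.comap (algebraMap A R') = q.asIdeal.comap (algebraMap A R) := by
    rw [IsScalarTower.algebraMap_eq A R R', ← Ideal.comap_comap]
    exact congrArg (fun z : PrimeSpectrum R => z.asIdeal.comap (algebraMap A R)) hq₁
  obtain ⟨P, hPle, hrP, hP⟩ := exists_horizontal_of_forall_le (A := A) q₁
    (r := algebraMap R R' r) (by rw [← hq₁] at hr; exact hr) hm' fun q' hq' hrq' => by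
    rw [← FibDepth.trd_comap_of_surjectiveOnStalks φ hφ q']
    let q₂ := PrimeSpectrum.comap φ.toRingHom q'
    have hIq₂ : I ≤ q₂.asIdeal := (Ideal.span_singleton_le_iff_mem _).2 hrq'
    let q₃ : PrimeSpectrum (R ⧸ I) := ⟨q₂.asIdeal.map (Ideal.Quotient.mk I),
      Ideal.map_isPrime_of_surjective Ideal.Quotient.mk_surjective (by rw [Ideal.mk_ker]; exact hIq₂)⟩
    have hq₃ : PrimeSpectrum.comap π.toRingHom q₃ = q₂ := PrimeSpectrum.ext (by
      show (q₂.asIdeal.map (Ideal.Quotient.mk I)).comap (Ideal.Quotient.mk I) = _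
      rw [Ideal.comap_map_of_surjective _ Ideal.Quotient.mk_surjective, ← RingHom.ker_eq_comap_bot,
        Ideal.mk_ker, sup_eq_left.2 hIq₂])
    show FibDepth.trd A q₂ ≤ m
    rw [← hq₃, FibDepth.trd_comap_of_surjectiveOnStalks π hπ]
    refine hc₀ (show Ideal.Quotient.mk I c ∉ q₃.asIdeal from fun e => ?_) q₃ le_rfl rfl
    have hc₂ : c ∈ q₂.asIdeal := by
      rw [← hq₃]; exact e
    exact (PrimeSpectrum.localization_away_comap_range R' c).le ⟨q', rfl⟩ hc₂
  refine ⟨PrimeSpectrum.comap (algebraMap R R') P, hq₁ ▸ Ideal.comap_mono hPle, hrP, ?_⟩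
  show (P.asIdeal.comap (algebraMap R R')).comap (algebraMap A R) = ⊥
  rw [Ideal.comap_comap, ← IsScalarTower.algebraMap_eq]
  exact hP

end Groth.Agent.FlatMorDim.HorizontalLift
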