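import Groth.Agent.FlatMorDim.FlatLift

/-!
# Generisations in the support of a flat module do not lose transcendence degree
-/

set_option autoImplicit false
set_option backward.isDefEq.respectTransparency false
set_option linter.style.haveILetI false

universe u

open Function TensorProduct MvPolynomial

namespace Groth.Agent.FlatMorDim.SupportLift

open Groth.Agent EGA43

/-- Monomials in lifts of independent residues, applied to an element nonzero modulo the maximal
ideal, are independent over the base. -/
theorem eq_zero_of_aeval_smul {L B N T : Type u} [CommRing L] [IsLocalRing L] [CommRing B] [IsLocalRing B]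
    [Algebra L B] [IsLocalHom (algebraMap L B)] [AddCommGroup N] [Module B N] [Module L N]
    [IsScalarTower L B N] [Module.Flat L N] (t : T → B)
    (ht : AlgebraicIndependent (IsLocalRing.ResidueField L) fun i => IsLocalRing.residue B (t i))
    (m : N) (hm : (1 : IsLocalRing.ResidueField B) ⊗ₜ[B] m ≠ 0)
    (P : MvPolynomial T L) (hP : aeval t P • m = 0) : P = 0 := by
  let k := IsLocalRing.ResidueField L
  let κ := IsLocalRing.ResidueField B
  let W := κ ⊗[B] N
  let v : (T →₀ ℕ) → N := fun e => aeval t (monomial e (1 : L)) • m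
  have hv : LinearIndependent L v := by
    refine Module.IsLocalRing.linearIndependent_of_flat v ?_
    let Φ : k ⊗[L] N →ₗ[k] W :=
      ((TensorProduct.mk B κ N 1).restrictScalars L).liftBaseChange k
    refine LinearIndependent.of_comp Φ ?_
    rw [algebraicIndependent_iff_injective_aeval] at ht
    have h2 := (MvPolynomial.basisMonomials T k).linearIndependent.map'
      (aeval fun i => IsLocalRing.residue B (t i)).toLinearMap (LinearMap.ker_eq_bot.2 ht)
    have h3 := h2.map' ((LinearMap.toSpanSingleton κ W ((1 : κ) ⊗ₜ[B] m)).restrictScalars k)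
      (LinearMap.ker_eq_bot.2 fun a b h => by
        have h' : a • ((1 : κ) ⊗ₜ[B] m) = b • ((1 : κ) ⊗ₜ[B] m) := h
        exact smul_left_injective κ hm h')
    convert h3 using 1
    all_goals try rfl
    ext e
    simp only [v, comp_apply, coe_basisMonomials, AlgHom.toLinearMap_apply,
      LinearMap.restrictScalars_apply, LinearMap.toSpanSingleton_apply, aeval_monomial, map_one, one_mul]
    show ((TensorProduct.mk B κ N 1).restrictScalars L).liftBaseChange k ((1 : k) ⊗ₜ[L] _) = _
    rw [LinearMap.liftBaseChange_tmul, one_smul, LinearMap.restrictScalars_apply, TensorProduct.mk_apply,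
      TensorProduct.tmul_smul, TensorProduct.smul_tmul']
    show _ = (e.prod fun i n => IsLocalRing.residue B (t i) ^ n) • ((1 : κ) ⊗ₜ[B] m)
    rw [TensorProduct.smul_tmul']
    refine congrArg (fun c => c ⊗ₜ[B] m) ?_
    rw [Algebra.smul_def, smul_eq_mul, mul_one, mul_one, IsLocalRing.ResidueField.algebraMap_eq,
      map_finsuppProd]
    exact Finsupp.prod_congr fun i _ => map_pow _ _ _
  have key : ∀ P : MvPolynomial T L, aeval t P • m =
      Finsupp.linearCombination L v ((basisMonomials T L).repr P) := by
    intro P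
    induction P using MvPolynomial.induction_on' with
    | monomial e c =>
      rw [show monomial e c = c • basisMonomials T L e by simp [smul_monomial]]
      rw [map_smul, map_smul, map_smul, Module.Basis.repr_self, Finsupp.linearCombination_single,
        one_smul, smul_assoc]
      simp [v]
    | add P Q hP hQ => simp only [map_add, add_smul, hP, hQ]
  rw [key, ← map_zero (Finsupp.linearCombination L v)] at hP
  exact (basisMonomials T L).repr.map_eq_zero_iff.1 (hv hP)

variable {A R : Type u} [CommRing A] [CommRing R] [Algebra A R] [Algebra.FiniteType A R]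
  {M : Type u} [AddCommGroup M] [Module R M] [Module A M] [IsScalarTower A R M] [Module.Finite R M]

/-- **Generisations in the support of a flat module do not lose transcendence degree.** -/
theorem exists_mem_support_trd_le (q : PrimeSpectrum R) (hq : q ∈ Module.support R M)
    [Module.Flat A (LocalizedModule q.asIdeal.primeCompl M)] (p' : Ideal A) [p'.IsPrime]
    (hp' : p' ∈ minimalPrimes A) (hle : p' ≤ q.asIdeal.comap (algebraMap A R)) :
    ∃ q' ∈ Module.support R M, q'.asIdeal ≤ q.asIdeal ∧ q'.asIdeal.comap (algebraMap A R) = p' ∧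
      FibDepth.trd A q ≤ FibDepth.trd A q' := by
  classical
  let p := q.asIdeal.comap (algebraMap A R)
  let L := Localization.AtPrime p
  let B := Localization.AtPrime q.asIdeal
  let N := LocalizedModule q.asIdeal.primeCompl M
  haveI : q.asIdeal.LiesOver p := ⟨rfl⟩
  let _ := Localization.AtPrime.algebraOfLiesOver p q.asIdeal
  let _ : Module L N := Module.compHom N (algebraMap L B)
  haveI : IsScalarTower L B N := IsScalarTower.of_algebraMap_smul fun _ _ => rfl
  haveI : IsScalarTower A L N := IsScalarTower.of_algebraMap_smul fun a n => by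
    show algebraMap L B (algebraMap A L a) • n = a • n
    rw [← IsScalarTower.algebraMap_apply, algebraMap_smul]
  haveI : Module.Flat L N := (Module.flat_iff_of_isLocalization L p.primeCompl N).2 inferInstance
  haveI : IsLocalHom (algebraMap L B) := Localization.isLocalHom_localRingHom p q.asIdeal (algebraMap A R) rfl
  let k := p.ResidueField
  let κ := q.asIdeal.ResidueField
  have halg : (inferInstance : Algebra k κ) =
      (Ideal.ResidueField.map p q.asIdeal (algebraMap A R) rfl).toAlgebra :=
    Algebra.algebra_ext _ _ fun x => RingHom.congr_fun (f := algebraMap k κ)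
      (g := Ideal.ResidueField.map p q.asIdeal (algebraMap A R) rfl)
      (Ideal.ResidueField.ringHom_ext (RingHom.ext fun a => by
        show algebraMap p.ResidueField q.asIdeal.ResidueField (algebraMap A p.ResidueField a) =
          Ideal.ResidueField.map p q.asIdeal (algebraMap A R) rfl (algebraMap A p.ResidueField a)
        rw [Ideal.ResidueField.map_algebraMap, ← IsScalarTower.algebraMap_apply A p.ResidueField,
          ← IsScalarTower.algebraMap_apply A R])) x
  haveI : FaithfulSMul k κ := (faithfulSMul_iff_algebraMap_injective _ _).2 (RingHom.injective _)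
  -- a transcendence basis from `R`
  let s : Set κ := Set.range (algebraMap R κ)
  haveI : Algebra.IsAlgebraic (Algebra.adjoin k s) κ := ⟨fun z => by
    obtain ⟨a, b, hb, rfl⟩ := IsFractionRing.div_surjective (R ⧸ q.asIdeal) z
    obtain ⟨a, rfl⟩ := Ideal.Quotient.mk_surjective a
    obtain ⟨b, rfl⟩ := Ideal.Quotient.mk_surjective b
    have hb' : algebraMap (R ⧸ q.asIdeal) κ (Ideal.Quotient.mk q.asIdeal b) ≠ 0 :=
      (map_ne_zero_iff _ (IsFractionRing.injective (R ⧸ q.asIdeal) κ)).2 (nonZeroDivisors.ne_zero hb)
    exact FlatMorDim.isAlgebraic_of_mul_eq (S := Algebra.adjoin k s)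
      (a := ⟨algebraMap R κ a, Algebra.subset_adjoin ⟨a, rfl⟩⟩)
      (b := ⟨algebraMap R κ b, Algebra.subset_adjoin ⟨b, rfl⟩⟩) hb' (div_mul_cancel₀ _ hb')⟩
  obtain ⟨T, hTs, hT⟩ := exists_isTranscendenceBasis_subset (R := k) s
  have hd : FibDepth.trd A q = (Cardinal.mk T).toNat := by
    rw [hT.cardinalMk_eq_trdeg]
    show Cardinal.toNat (@Algebra.trdeg k κ _ _
      (Ideal.ResidueField.map p q.asIdeal (algebraMap A R) rfl).toAlgebra) = _
    rw [← halg]
  choose r hr using fun i : T => hTs i.2
  -- an element nonzero modulo the maximal ideal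
  haveI : Nontrivial N := Module.mem_support_iff.1 hq
  obtain ⟨m, hm⟩ : ∃ m : M, (1 : IsLocalRing.ResidueField B) ⊗ₜ[B] (LocalizedModule.mkLinearMap q.asIdeal.primeCompl M m : N) ≠ 0 := by
    by_contra! h
    haveI : Nontrivial (IsLocalRing.ResidueField B ⊗[B] N) := by
      refine not_subsingleton_iff_nontrivial.1 fun hs => ?_
      exact not_subsingleton N (IsLocalRing.subsingleton_tensorProduct.1 hs)
    obtain ⟨z, hz⟩ := exists_ne (0 : IsLocalRing.ResidueField B ⊗[B] N)
    refine hz ?_
    clear hz
    induction z using TensorProduct.induction_on with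
    | zero => rfl
    | add a b ha hb => rw [ha, hb, add_zero]
    | tmul c n =>
      obtain ⟨c, rfl⟩ := IsLocalRing.residue_surjective c
      obtain ⟨⟨n, u⟩, rfl⟩ := IsLocalizedModule.mk'_surjective q.asIdeal.primeCompl
        (LocalizedModule.mkLinearMap q.asIdeal.primeCompl M) n
      obtain ⟨w, hw⟩ := IsLocalization.map_units B u
      have h' : (algebraMap R B u) • IsLocalizedModule.mk' (LocalizedModule.mkLinearMap q.asIdeal.primeCompl M) n u =
          LocalizedModule.mkLinearMap q.asIdeal.primeCompl M n := by
        rw [algebraMap_smul]; exact IsLocalizedModule.mk'_cancel' _ n u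
      have h'' : IsLocalizedModule.mk' (LocalizedModule.mkLinearMap q.asIdeal.primeCompl M) n u =
          (↑w⁻¹ : B) • LocalizedModule.mkLinearMap q.asIdeal.primeCompl M n := by
        rw [← h', ← hw, smul_smul, Units.inv_mul, one_smul]
      have h3 : (IsLocalRing.residue B c) = c • (1 : IsLocalRing.ResidueField B) := by
        rw [Algebra.smul_def, mul_one]; rfl
      show (IsLocalRing.residue B c) ⊗ₜ[B] _ = 0
      rw [Function.uncurry_apply_pair, h'', TensorProduct.tmul_smul, h3, ← TensorProduct.smul_tmul', h n,
        smul_zero, smul_zero]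
  have hne : ∀ P : MvPolynomial T L, P ≠ 0 →
      aeval (fun i => algebraMap R B (r i)) P • LocalizedModule.mkLinearMap q.asIdeal.primeCompl M m ≠ 0 := by
    intro P hP h0
    refine hP (eq_zero_of_aeval_smul _ ?_ _ hm P h0)
    have h1 := hT.1
    convert h1 using 1
    exact funext fun i => (IsScalarTower.algebraMap_apply R B κ (r i)).symm.trans (hr i)
  -- the multiplicative set
  let Pp : Ideal (MvPolynomial T A) := RingHom.ker (MvPolynomial.map (Ideal.Quotient.mk p'))
  haveI : Pp.IsPrime := RingHom.ker_isPrime _
  have hPp : ∀ P : MvPolynomial T A, P ∈ Pp ↔ ∀ d, P.coeff d ∈ p' := fun P => by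
    simp only [Pp, RingHom.mem_ker, MvPolynomial.ext_iff, coeff_map, coeff_zero,
      Ideal.Quotient.eq_zero_iff_mem]
  let ρ : MvPolynomial T A →ₐ[A] R := aeval r
  let S : Submonoid R := q.asIdeal.primeCompl ⊔ Pp.primeCompl.map ρ.toRingHom
  let J : Ideal R := (Submodule.span R {m}).annihilator
  have hS : Disjoint (J : Set R) S := by
    rw [Set.disjoint_left]
    intro x hxJ hxS
    obtain ⟨c, hc, d, ⟨P, hP, rfl⟩, rfl⟩ := Submonoid.mem_sup.1 hxS
    have h0 : (c * ρ P) • m = 0 := Submodule.mem_annihilator.1 hxJ m (Submodule.mem_span_singleton_self m)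
    refine hne (MvPolynomial.map (algebraMap A L) P) ?_ ?_
    · intro e
      refine hP ?_
      refine (hPp _).2 fun d => ?_
      have h' : algebraMap A L (P.coeff d) = 0 := by rw [← coeff_map, e, coeff_zero]
      obtain ⟨⟨u, hu⟩, hu'⟩ := (IsLocalization.map_eq_zero_iff p.primeCompl L _).1 h'
      exact (‹p'.IsPrime›.mem_or_mem (show u * P.coeff d ∈ p' from hu'.symm ▸ zero_mem _)).resolve_left
        fun hu₂ => hu (hle hu₂)
    · have h1 := congrArg (LocalizedModule.mkLinearMap q.asIdeal.primeCompl M) h0
      rw [map_smul, map_zero, mul_smul, ← algebraMap_smul B c, ← algebraMap_smul B (ρ P)] at h1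
      have h2 := ((IsLocalization.map_units B (⟨c, hc⟩ : q.asIdeal.primeCompl)).smul_eq_zero).1 h1
      rw [aeval_map_algebraMap]
      rwa [← aeval_algebraMap_apply] at h2
  obtain ⟨Q, hQ, hJQ, hQS⟩ := Ideal.exists_le_prime_disjoint J S hS
  let q' : PrimeSpectrum R := ⟨Q, hQ⟩
  have hQq : Q ≤ q.asIdeal := fun x hx => by_contra fun h =>
    Set.disjoint_left.1 hQS hx (Submonoid.mem_sup_left (show x ∈ q.asIdeal.primeCompl from h))
  have hQP : ∀ P : MvPolynomial T A, ρ P ∈ Q → P ∈ Pp := fun P hx => by_contra fun h =>
    Set.disjoint_left.1 hQS hx (Submonoid.mem_sup_right (Submonoid.mem_map_of_mem ρ.toRingHom (show P ∈ Pp.primeCompl from h)))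
  have hcomap : q'.asIdeal.comap (algebraMap A R) = p' := by
    have h1 : q'.asIdeal.comap (algebraMap A R) ≤ p' := fun a ha => by
      have := (hPp _).1 (hQP (C a) (by
        show aeval r (C a) ∈ Q
        rw [aeval_C]; exact ha)) 0
      rwa [coeff_zero_C] at this
    exact le_antisymm h1 (hp'.2 ⟨inferInstance, bot_le⟩ h1)
  refine ⟨q', Module.mem_support_iff'.2 ⟨m, fun x hx h0 => hx (hJQ (Submodule.mem_annihilator.2 fun y hy => ?_))⟩,
    hQq, hcomap, ?_⟩
  · obtain ⟨z, rfl⟩ := Submodule.mem_span_singleton.1 hy
    rw [smul_comm, h0, smul_zero]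
  -- transcendence degree at `q'`
  let p₁ := q'.asIdeal.comap (algebraMap A R)
  let _ : Algebra p₁.ResidueField q'.asIdeal.ResidueField :=
    (Ideal.ResidueField.map p₁ q'.asIdeal (algebraMap A R) rfl).toAlgebra
  have hfl := FlatMorDim.trdeg_residueField_lt (A := A) p₁ q'.asIdeal rfl
  rw [hd]
  refine Cardinal.toNat_le_toNat (AlgebraicIndependent.cardinalMk_le_trdeg
    (x := fun i => algebraMap R q'.asIdeal.ResidueField (r i)) ?_) hfl
  haveI : IsScalarTower A p₁.ResidueField q'.asIdeal.ResidueField :=
    .of_algebraMap_eq fun a => by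
      rw [RingHom.algebraMap_toAlgebra, Ideal.ResidueField.map_algebraMap,
        IsScalarTower.algebraMap_apply A R q'.asIdeal.ResidueField]
  let _ : Algebra (A ⧸ p₁) q'.asIdeal.ResidueField :=
    ((algebraMap p₁.ResidueField q'.asIdeal.ResidueField).comp (algebraMap (A ⧸ p₁) p₁.ResidueField)).toAlgebra
  haveI : IsScalarTower (A ⧸ p₁) p₁.ResidueField q'.asIdeal.ResidueField := .of_algebraMap_eq' rfl
  haveI : IsScalarTower A (A ⧸ p₁) q'.asIdeal.ResidueField := .of_algebraMap_eq fun a => by
    rw [RingHom.algebraMap_toAlgebra, RingHom.comp_apply, ← IsScalarTower.algebraMap_apply A (A ⧸ p₁),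
      ← IsScalarTower.algebraMap_apply]
  have hinjA : AlgebraicIndependent (A ⧸ p₁) fun i => algebraMap R q'.asIdeal.ResidueField (r i) := by
    rw [algebraicIndependent_iff]
    intro P hP
    obtain ⟨P, rfl⟩ := MvPolynomial.map_surjective _ Ideal.Quotient.mk_surjective P
    rw [show Ideal.Quotient.mk p₁ = algebraMap A (A ⧸ p₁) from rfl] at hP ⊢
    rw [aeval_map_algebraMap, show (fun i => algebraMap R q'.asIdeal.ResidueField (r i)) =
      algebraMap R q'.asIdeal.ResidueField ∘ r from rfl, aeval_algebraMap_apply,
      Ideal.algebraMap_residueField_eq_zero] at hP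
    ext d
    rw [coeff_map, coeff_zero]
    refine Ideal.Quotient.eq_zero_iff_mem.2 ?_
    rw [show p₁ = p' from hcomap]
    exact (hPp _).1 (hQP P hP) d
  haveI : Algebra.IsAlgebraic (A ⧸ p₁) p₁.ResidueField :=
    IsLocalization.isAlgebraic _ (nonZeroDivisors (A ⧸ p₁))
  exact hinjA.extendScalars (S := p₁.ResidueField)

end Groth.Agent.FlatMorDim.SupportLift
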