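import Groth.Agent.FlatMorDim.HorizontalLift
import Groth.Agent.FlatMorDim.FlatLift
import Groth.Agent.EGA43.DimFormula.Ring
import Groth.Agent.EGA43.SectionComp.Dim

/-!
# Horizontal primes in a hypersurface, irreducible rings
-/

set_option autoImplicit false
set_option backward.isDefEq.respectTransparency false
set_option linter.style.haveILetI false

universe u

namespace Groth.Agent.FlatMorDim

open Groth.Agent EGA43

/-- The transcendence degree at the generic point of a domain of finite type. -/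
theorem trd_bot_eq {A R : Type u} [CommRing A] [IsDomain A] [CommRing R] [IsDomain R] [Algebra A R]
    [FaithfulSMul A R] [Algebra.FiniteType A R] :
    (FibDepth.trd A (⟨⊥, Ideal.isPrime_bot⟩ : PrimeSpectrum R) : Cardinal.{u}) = Algebra.trdeg A R := by
  haveI : (⟨⊥, Ideal.isPrime_bot⟩ : PrimeSpectrum R).asIdeal.LiesOver (⊥ : Ideal A) :=
    ⟨(Ideal.comap_bot_of_injective _ (FaithfulSMul.algebraMap_injective A R)).symm⟩
  haveI : FaithfulSMul (A ⧸ (⊥ : Ideal A)) (R ⧸ (⊥ : Ideal R)) :=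
    (faithfulSMul_iff_algebraMap_injective _ _).2 (Ideal.quotientMap_injective'
      (by rw [Ideal.comap_bot_of_injective _ (FaithfulSMul.algebraMap_injective A R)]))
  rw [Chevalley.trd_eq_trdeg_quotient (⊥ : Ideal A)]
  have he := Chevalley.trdeg_eq_of_ringEquiv (RingEquiv.quotientBot A).symm (RingEquiv.quotientBot R).symm
    (rfl : ((RingEquiv.quotientBot R).symm : R →+* R ⧸ (⊥ : Ideal R)).comp (algebraMap A R) = _)
  rw [← he]
  exact Cardinal.cast_toNat_of_lt_aleph0 trdeg_lt_aleph0_of_finiteType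

/-- `exists_horizontal` with irreducible spectra in place of domains. -/
theorem exists_horizontal_of_le_nilradical {A R : Type u} [CommRing A] [CommRing R] [Algebra A R]
    [Algebra.FiniteType A R] (a : PrimeSpectrum A) (z : PrimeSpectrum R)
    (hz : z.asIdeal ≤ nilradical R) (hza : z.asIdeal.comap (algebraMap A R) = a.asIdeal)
    (q : PrimeSpectrum R) {g : R} (hg : g ∈ q.asIdeal) {m : ℕ}
    (hm : m + 1 ≤ FibDepth.trd A z)
    (h : ∀ q' : PrimeSpectrum R, q'.asIdeal ≤ q.asIdeal →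
      q'.asIdeal.comap (algebraMap A R) = q.asIdeal.comap (algebraMap A R) →
        g ∈ q'.asIdeal → FibDepth.trd A q' ≤ m) :
    ∃ P : PrimeSpectrum R, P.asIdeal ≤ q.asIdeal ∧ g ∈ P.asIdeal ∧
      P.asIdeal.comap (algebraMap A R) = a.asIdeal := by
  let A₀ := A ⧸ a.asIdeal
  let R₀ := R ⧸ z.asIdeal
  let _ : Algebra A₀ R₀ := (Ideal.quotientMap z.asIdeal (algebraMap A R) hza.ge).toAlgebra
  haveI : IsScalarTower A A₀ R₀ := .of_algebraMap_eq fun _ => rfl
  haveI : FaithfulSMul A₀ R₀ := (faithfulSMul_iff_algebraMap_injective _ _).2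
    (Ideal.quotientMap_injective' hza.le)
  haveI : Algebra.FiniteType A₀ R₀ := Algebra.FiniteType.of_restrictScalars_finiteType A _ _
  let π : R →ₐ[A] R₀ := Ideal.Quotient.mkₐ A z.asIdeal
  have hπ : π.toRingHom.SurjectiveOnStalks :=
    RingHom.surjectiveOnStalks_of_surjective Ideal.Quotient.mk_surjective
  have htr : ∀ Q : PrimeSpectrum R₀,
      FibDepth.trd A₀ Q = FibDepth.trd A (PrimeSpectrum.comap π.toRingHom Q) := fun Q => by
    rw [FibDepth.trd_comap_of_surjectiveOnStalks π hπ]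
    exact (trd_of_surjective (A' := A₀) Ideal.Quotient.mk_surjective Q).symm
  have hzle : ∀ P : PrimeSpectrum R, z.asIdeal ≤ P.asIdeal := fun P =>
    hz.trans (nilradical_le_prime P.asIdeal)
  let q₀ : PrimeSpectrum R₀ := ⟨q.asIdeal.map (Ideal.Quotient.mk z.asIdeal),
    Ideal.map_isPrime_of_surjective Ideal.Quotient.mk_surjective (by rw [Ideal.mk_ker]; exact hzle q)⟩
  have hq₀ : q₀.asIdeal.comap (Ideal.Quotient.mk z.asIdeal) = q.asIdeal := by
    show (q.asIdeal.map (Ideal.Quotient.mk z.asIdeal)).comap (Ideal.Quotient.mk z.asIdeal) = _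
    rw [Ideal.comap_map_of_surjective _ Ideal.Quotient.mk_surjective, ← RingHom.ker_eq_comap_bot,
      Ideal.mk_ker, sup_eq_left.2 (hzle q)]
  have hm₀ : (m : Cardinal.{u}) + 1 ≤ Algebra.trdeg A₀ R₀ := by
    rw [← trd_bot_eq, htr]
    have : PrimeSpectrum.comap π.toRingHom (⟨⊥, Ideal.isPrime_bot⟩ : PrimeSpectrum R₀) = z :=
      PrimeSpectrum.ext Ideal.mk_ker
    rw [this]
    exact_mod_cast hm
  obtain ⟨P₀, hle, hgP, hP₀⟩ := HorizontalLift.exists_horizontal (A := A₀) q₀
    (r := Ideal.Quotient.mk z.asIdeal g) (Ideal.mem_map_of_mem _ hg) hm₀ fun q' hle hc hgq => by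
      rw [htr]
      refine h _ (hq₀ ▸ Ideal.comap_mono hle) ?_ hgq
      have hc' := congrArg (Ideal.comap (algebraMap A A₀)) hc
      rw [Ideal.comap_comap, Ideal.comap_comap, ← IsScalarTower.algebraMap_eq] at hc'
      show (q'.asIdeal.comap (Ideal.Quotient.mk z.asIdeal)).comap (algebraMap A R) = _
      rw [← hq₀, Ideal.comap_comap, Ideal.comap_comap]
      exact hc'
  refine ⟨PrimeSpectrum.comap π.toRingHom P₀, hq₀ ▸ Ideal.comap_mono hle, hgP, ?_⟩
  show (P₀.asIdeal.comap (Ideal.Quotient.mk z.asIdeal)).comap (algebraMap A R) = _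
  have h' := congrArg (Ideal.comap (algebraMap A A₀)) hP₀
  rw [Ideal.comap_comap, ← IsScalarTower.algebraMap_eq, ← RingHom.ker_eq_comap_bot] at h'
  rw [Ideal.comap_comap]
  exact h'.trans Ideal.mk_ker

end Groth.Agent.FlatMorDim
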